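import Mathlib.AlgebraicGeometry.Modules.Sheaf
import Mathlib.Algebra.Category.ModuleCat.Sheaf.Abelian
import Mathlib.Algebra.Homology.ShortComplex.Abelian
import Mathlib.Algebra.Homology.ShortComplex.Exact
import Groth.Prelude.Def_CechOX
import Groth.Prelude.Def_DCoh2

/-!
# Local criteria for mono, epi and exactness of `O_X`-modules, and sections of products
-/

set_option autoImplicit false

universe u

open CategoryTheory CategoryTheory.Limits AlgebraicGeometry Opposite TopologicalSpace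

namespace K591.ModLoc

variable {X : Scheme.{u}}

/-- restriction of sections. -/
noncomputable abbrev res (M : X.Modules) {V W : X.Opens} (h : V ≤ W) : Γ(M, W) →+ Γ(M, V) :=
  (M.presheaf.map (homOfLE h).op).hom

theorem res_res (M : X.Modules) {V W Z : X.Opens} (h : V ≤ W) (h' : W ≤ Z) (x : Γ(M, Z)) :
    res M h (res M h' x) = res M (h.trans h') x := by
  change (M.presheaf.map (homOfLE h').op ≫ M.presheaf.map (homOfLE h).op).hom x = _
  rw [← M.presheaf.map_comp]
  rfl

theorem res_self (M : X.Modules) {V : X.Opens} (h : V ≤ V) (x : Γ(M, V)) : res M h x = x := by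
  change (M.presheaf.map (𝟙 _)).hom x = x
  rw [M.presheaf.map_id]; rfl

theorem app_res {M N : X.Modules} (φ : M ⟶ N) {V W : X.Opens} (h : V ≤ W) (x : Γ(M, W)) :
    φ.app V (res M h x) = res N h (φ.app W x) :=
  ConcreteCategory.congr_hom (φ.mapPresheaf.naturality (homOfLE h).op) x

theorem eq_of_locally (M : X.Modules) {U : X.Opens} (s t : Γ(M, U))
    (h : ∀ x ∈ U, ∃ (V : X.Opens) (hV : V ≤ U), x ∈ V ∧ res M hV s = res M hV t) : s = t := by
  refine TopCat.Sheaf.eq_of_locally_eq' ⟨_, M.isSheaf⟩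
    (fun V : {V : X.Opens // ∃ hV : V ≤ U, res M hV s = res M hV t} => V.1) U
    (fun V => homOfLE V.2.choose) ?_ _ _ ?_
  · intro x hx
    obtain ⟨V, hV, hxV, hVU⟩ := h x hx
    exact Opens.mem_iSup.mpr ⟨⟨V, hV, hVU⟩, hxV⟩
  · intro V
    exact V.2.choose_spec

theorem mono_of_locally {M N : X.Modules} (g : M ⟶ N)
    (h : ∀ (U : X.Opens) (s : Γ(M, U)), g.app U s = 0 → ∀ x ∈ U, ∃ (V : X.Opens) (hV : V ≤ U), x ∈ V ∧
      res M hV s = 0) : Mono g := by
  refine Preadditive.mono_of_cancel_zero g fun {Z} k hk => ?_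
  apply Scheme.Modules.hom_ext
  intro U
  ext t
  refine eq_of_locally M _ _ fun x hx => ?_
  obtain ⟨V, hV, hxV, h1⟩ := h U (k.app U t) (by
    change (k ≫ g).app U t = 0
    rw [hk]
    rfl) x hx
  exact ⟨V, hV, hxV, h1.trans (map_zero (res M hV)).symm⟩

theorem epi_of_locally {M N : X.Modules} (g : M ⟶ N)
    (h : ∀ (U : X.Opens) (t : Γ(N, U)), ∀ x ∈ U, ∃ (V : X.Opens) (hV : V ≤ U) (s : Γ(M, V)), x ∈ V ∧
      g.app V s = res N hV t) : Epi g := by
  refine Preadditive.epi_of_cancel_zero g fun {Z} k hk => ?_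
  apply Scheme.Modules.hom_ext
  intro U
  ext t
  refine eq_of_locally Z _ _ fun x hx => ?_
  obtain ⟨V, hV, s, hxV, h1⟩ := h U t x hx
  refine ⟨V, hV, hxV, ?_⟩
  have h2 : k.app V (g.app V s) = 0 := by
    change (g ≫ k).app V s = 0
    rw [hk]
    rfl
  have h3 : res Z hV (k.app U t) = 0 := by
    rw [← app_res, ← h1, h2]
  exact h3.trans (map_zero (res Z hV)).symm

theorem injective_of_mono {M N : X.Modules} (g : M ⟶ N) [Mono g] (U : X.Opens) :
    Function.Injective (g.app U) := by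
  have h1 : Mono ((Scheme.Modules.toPresheaf X).map g) := inferInstance
  have h3 := (NatTrans.mono_iff_mono_app _).1 h1 (op U)
  exact (AddCommGrpCat.mono_iff_injective _).1 h3

theorem exact_of_locally (S : ShortComplex X.Modules)
    (h : ∀ (U : X.Opens) (s : Γ(S.X₂, U)), S.g.app U s = 0 → ∀ x ∈ U, ∃ (V : X.Opens) (hV : V ≤ U)
      (t : Γ(S.X₁, V)), x ∈ V ∧ S.f.app V t = res S.X₂ hV s) : S.Exact := by
  rw [S.exact_iff_epi_kernel_lift]
  refine epi_of_locally _ fun U s x hx => ?_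
  obtain ⟨V, hV, t, hxV, ht⟩ := h U ((kernel.ι S.g).app U s) (by
    change (kernel.ι S.g ≫ S.g).app U s = 0
    rw [kernel.condition]
    rfl) x hx
  refine ⟨V, hV, t, hxV, injective_of_mono (kernel.ι S.g) V ?_⟩
  have h2 : (kernel.ι S.g).app V ((kernel.lift S.g S.f S.zero).app V t) = S.f.app V t := by
    change (kernel.lift S.g S.f S.zero ≫ kernel.ι S.g).app V t = _
    rw [kernel.lift_ι]
  rw [h2, ht, app_res]

/-- sections over `O`, as a functor to types. -/
noncomputable abbrev sectType (O : X.Opens) : X.Modules ⥤ Type u :=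
  Scheme.Modules.toPresheaf X ⋙ (evaluation _ _).obj (op O) ⋙ forget Ab.{u}

instance sectType_preservesLimits (O : X.Opens) :
    PreservesLimitsOfSize.{u, u} (sectType O) := by
  have h1 : PreservesLimitsOfSize.{u, u} (forget AddCommGrpCat.{u}) := inferInstance
  have h3 : PreservesLimitsOfSize.{u, u} (Scheme.Modules.toPresheaf X) :=
    inferInstance
  have h2 : PreservesLimitsOfSize.{u, u} ((evaluation (X.Opens)ᵒᵖ AddCommGrpCat.{u}).obj (op O)) :=
    ⟨fun {J} _ ↦ inferInstance⟩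
  infer_instance

/-- Sections of a product of modules. -/
theorem pi_bijective {ι : Type u} (G : ι → X.Modules) (O : X.Opens) :
    Function.Bijective (fun (s : Γ(∏ᶜ G, O)) (i : ι) ↦
      ((Pi.π G i).app O s : Γ(G i, O))) := by
  have hl := isLimitOfPreserves (sectType O) (limit.isLimit (Discrete.functor G))
  have hb := (Types.isLimit_iff_bijective_sectionOfCone _).mp ⟨hl⟩
  constructor
  · intro s t h
    apply hb.1
    ext ⟨i⟩
    exact congrFun h i
  · intro t
    obtain ⟨s, hs⟩ := hb.2 ⟨fun j ↦ t j.as, by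
      rintro ⟨i⟩ ⟨j⟩ ⟨⟨h⟩⟩
      dsimp at h
      subst h
      simp
      rfl⟩
    refine ⟨s, ?_⟩
    ext i
    exact congrFun (congrArg Subtype.val hs) ⟨i⟩

theorem sum_app {M N : X.Modules} {J : Type*} (s : Finset J) (f : J → (M ⟶ N)) (V : X.Opens) (x : Γ(M, V)) :
    (∑ j ∈ s, f j).app V x = ∑ j ∈ s, (f j).app V x :=
  map_sum ({ toFun := fun g => g.app V x, map_zero' := rfl, map_add' := fun _ _ => rfl } :
    (M ⟶ N) →+ Γ(N, V)) f s

theorem zsmul_app {M N : X.Modules} (n : ℤ) (f : M ⟶ N) (V : X.Opens) (x : Γ(M, V)) :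
    (n • f).app V x = n • f.app V x :=
  map_zsmul ({ toFun := fun g => g.app V x, map_zero' := rfl, map_add' := fun _ _ => rfl } :
    (M ⟶ N) →+ Γ(N, V)) n f

theorem comp_app {A B C : X.Modules} (f : A ⟶ B) (g : B ⟶ C) (U : X.Opens) (a : Γ(A, U)) :
    (f ≫ g).app U a = g.app U (f.app U a) := rfl

end K591.ModLoc
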