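import Groth.Agent.Cohder.ProdExact
import Mathlib.Algebra.Homology.Additive
import Mathlib.Algebra.Homology.SingleHomology
import Mathlib.Algebra.Homology.HomologicalComplexLimits

/-!
# Augmentations `H(F) ⟶ H(I)` which are quasi-isomorphisms: products and exact functors
-/

set_option autoImplicit false

universe w v₁ v₂ v₃ u₁ u₂ u₃

open CategoryTheory CategoryTheory.Limits ComplexShape

namespace K591.AugProd

variable {A : Type u₁} [Category.{v₁} A] [Abelian A] {B : Type u₂} [Category.{v₂} B] [Abelian B]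
  (H : A ⥤ B) [H.Additive] {I : CochainComplex A ℤ} {F : A} (ρ : F ⟶ I.X 0) (hρ : ρ ≫ I.d 0 1 = 0)

theorem cond (k : ℤ) (hk : (up ℤ).Rel 0 k) (hρ : ρ ≫ I.d 0 1 = 0) : ρ ≫ I.d 0 k = 0 := by
  obtain rfl : k = 1 := by
    have : (0 : ℤ) + 1 = k := hk
    simpa using this.symm
  exact hρ

theorem condH (k : ℤ) (hk : (up ℤ).Rel 0 k) (hρ : ρ ≫ I.d 0 1 = 0) : H.map ρ ≫ H.map (I.d 0 k) = 0 := by
  rw [← H.map_comp, cond ρ k hk hρ, H.map_zero]

/-- The augmentation. -/
noncomputable def augI : (HomologicalComplex.single A (up ℤ) 0).obj F ⟶ I :=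
  HomologicalComplex.mkHomFromSingle ρ (fun k hk => cond ρ k hk hρ)

/-- The augmentation, after applying `H`. -/
noncomputable def augH : (HomologicalComplex.single B (up ℤ) 0).obj (H.obj F) ⟶
    (H.mapHomologicalComplex (up ℤ)).obj I :=
  HomologicalComplex.mkHomFromSingle (K := (H.mapHomologicalComplex (up ℤ)).obj I)
    (H.map ρ) (fun k hk => condH H ρ k hk hρ)

theorem augH_eq : (HomologicalComplex.singleMapHomologicalComplex H (up ℤ) 0).hom.app F ≫ augH H ρ hρ =
    (H.mapHomologicalComplex (up ℤ)).map (augI ρ hρ) := by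
  rw [← cancel_epi ((HomologicalComplex.singleMapHomologicalComplex H (up ℤ) 0).inv.app F), ← Category.assoc,
    Iso.inv_hom_id_app, Category.id_comp]
  apply HomologicalComplex.from_single_hom_ext
  rw [augH, HomologicalComplex.mkHomFromSingle_f, HomologicalComplex.comp_f,
    HomologicalComplex.singleMapHomologicalComplex_inv_app_self]
  change _ = _ ≫ H.map ((augI ρ hρ).f 0)
  rw [augI, HomologicalComplex.mkHomFromSingle_f, H.map_comp, Category.assoc, ← Functor.map_comp_assoc,
    Iso.inv_hom_id, H.map_id, Category.id_comp]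
  rfl

theorem quasiIso_augH_iff : QuasiIso (augH H ρ hρ) ↔
    QuasiIso ((H.mapHomologicalComplex (up ℤ)).map (augI ρ hρ)) := by
  rw [← augH_eq]
  exact (quasiIso_iff_comp_left _ _).symm

theorem augH_natural {H H' : A ⥤ B} [H.Additive] [H'.Additive] (p : H ⟶ H') :
    augH H ρ hρ ≫ (NatTrans.mapHomologicalComplex p (up ℤ)).app I =
      (HomologicalComplex.single B (up ℤ) 0).map (p.app F) ≫ augH H' ρ hρ := by
  apply HomologicalComplex.from_single_hom_ext
  rw [HomologicalComplex.comp_f, HomologicalComplex.comp_f, augH, HomologicalComplex.mkHomFromSingle_f,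
    augH, HomologicalComplex.mkHomFromSingle_f, HomologicalComplex.single_map_f_self, Category.assoc,
    Category.assoc, Category.assoc, Iso.inv_hom_id_assoc]
  exact congrArg (_ ≫ ·) (p.naturality ρ)

theorem quasiIso_augH_of_iso {H H' : A ⥤ B} [H.Additive] [H'.Additive] (e : H ≅ H')
    (h : QuasiIso (augH H ρ hρ)) : QuasiIso (augH H' ρ hρ) := by
  have : IsIso ((NatTrans.mapHomologicalComplex e.hom (up ℤ)).app I) :=
    inferInstanceAs (IsIso ((NatIso.mapHomologicalComplex e (up ℤ)).hom.app I))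
  rw [← quasiIso_iff_comp_left ((HomologicalComplex.single B (up ℤ) 0).map (e.hom.app F)), ← augH_natural]
  infer_instance

theorem quasiIso_augH_of_prod {J : Type w} [Finite J] (Hj : J → A ⥤ B) [∀ j, (Hj j).Additive] (p : ∀ j, H ⟶ Hj j)
    (hp : ∀ M, Nonempty (IsLimit (Fan.mk (H.obj M) (fun j => (p j).app M))))
    (h : ∀ j, QuasiIso (augH (Hj j) ρ hρ)) : QuasiIso (augH H ρ hρ) := by
  have : HasFiniteBiproducts B := HasFiniteBiproducts.of_hasFiniteProducts
  have : HasExactLimitsOfShape (Discrete J) B := hasExactLimitsOfShape_discrete_finite B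
  refine Groth.Agent.Cohder.ProdExact.quasiIso_of_isLimit_fan (fun j => augH (Hj j) ρ hρ) h
    (fun j => (HomologicalComplex.single B (up ℤ) 0).map ((p j).app F))
    (isLimitFanMkObjOfIsLimit (HomologicalComplex.single B (up ℤ) 0) _ _ (hp F).some)
    (fun j => (NatTrans.mapHomologicalComplex (p j) (up ℤ)).app I)
    (HomologicalComplex.isLimitOfEval _ _ fun i => (isLimitMapConeFanMkEquiv
      (HomologicalComplex.eval B (up ℤ) i) _ _).symm (hp (I.X i)).some)
    (augH H ρ hρ) fun j => augH_natural ρ hρ (p j)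

end K591.AugProd
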