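import Groth.Agent.CechOX.K591.SecE
import Groth.Agent.CohqA.AffineBaseChange

/-!
# Base change for the families `W ↦ f_* (j_W)_*(F|_W)`
-/

set_option autoImplicit false

universe u

open CategoryTheory CategoryTheory.Limits AlgebraicGeometry Opposite TopologicalSpace Simplicial

namespace K591.BCx

open K591.FCx K591.ModLoc K591.Resol CechOX K591.HypFlasque K591.SecE
open Groth.Agent.CohqA.PullbackUniv Groth.Agent.CohqA.BaseChangeMod Groth.Agent.CohqA.PullbackAffine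
  Groth.Agent.CohqA.PullbackSections Groth.Agent.CohqA.PullbackQCoh
  Groth.Agent.CohqA.BaseChangePushout Groth.Agent.CohqA.AffineBaseChange

variable {X S X' S' : Scheme.{u}} (f : X ⟶ S) (g : S' ⟶ S) (g' : X' ⟶ X) (f' : X' ⟶ S')

theorem tau_le (W V : X.Opens) :
    (g' ⁻¹ᵁ W).ι ''ᵁ ((g' ⁻¹ᵁ W).ι ⁻¹ᵁ (g' ⁻¹ᵁ V)) ≤ g' ⁻¹ᵁ (W.ι ''ᵁ (W.ι ⁻¹ᵁ V)) := by
  change (interFun (g' ⁻¹ᵁ W)).obj (g' ⁻¹ᵁ V) ≤ g' ⁻¹ᵁ ((interFun W).obj V)
  rw [interFun_eq, interFun_eq]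
  rfl

/-- The inclusions. -/
noncomputable def tauF (W : X.Opens) :
    TopologicalSpace.Opens.map g'.base ⋙ interFun (g' ⁻¹ᵁ W) ⟶ interFun W ⋙ TopologicalSpace.Opens.map g'.base where
  app V := homOfLE (tau_le g' W V)

/-- Restriction, on abelian presheaves. -/
noncomputable def tauPre (W : X.Opens) (N : X'.Modules) :
    ((pushRestr W).obj ((Scheme.Modules.pushforward g').obj N)).presheaf ⟶
      ((Scheme.Modules.pushforward g').obj ((pushRestr (g' ⁻¹ᵁ W)).obj N)).presheaf :=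
  Functor.whiskerRight (NatTrans.op (tauF g' W)) N.presheaf

/-- Restriction. -/
noncomputable def tau (W : X.Opens) (N : X'.Modules) :
    (pushRestr W).obj ((Scheme.Modules.pushforward g').obj N) ⟶
      (Scheme.Modules.pushforward g').obj ((pushRestr (g' ⁻¹ᵁ W)).obj N) :=
  ⟨PresheafOfModules.homMk (tauPre g' W N) (fun V r m => by
      obtain ⟨V⟩ := V
      change ↑(Γ(X, V)) at r
      change N.presheaf.map (homOfLE (tau_le g' W V)).op
          ((g'.app _ ((W.ι.appIso (W.ι ⁻¹ᵁ V)).inv (W.ι.app V r))) •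
            (show ↑Γ(N, g' ⁻¹ᵁ (W.ι ''ᵁ (W.ι ⁻¹ᵁ V))) from m)) =
        (((g' ⁻¹ᵁ W).ι.appIso ((g' ⁻¹ᵁ W).ι ⁻¹ᵁ (g' ⁻¹ᵁ V))).inv ((g' ⁻¹ᵁ W).ι.app (g' ⁻¹ᵁ V) (g'.app V r))) •
          N.presheaf.map (homOfLE (tau_le g' W V)).op (show ↑Γ(N, g' ⁻¹ᵁ (W.ι ''ᵁ (W.ι ⁻¹ᵁ V))) from m)
      rw [Scheme.Modules.map_smul]
      congr 1
      have h1 : (W.ι.appIso (W.ι ⁻¹ᵁ V)).inv (W.ι.app V r) =
          X.presheaf.map (homOfLE (W.ι.image_preimage_le V)).op r :=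
        ConcreteCategory.congr_hom (W.ι.app_appIso_inv V) r
      have h2 : ((g' ⁻¹ᵁ W).ι.appIso ((g' ⁻¹ᵁ W).ι ⁻¹ᵁ (g' ⁻¹ᵁ V))).inv
            ((g' ⁻¹ᵁ W).ι.app (g' ⁻¹ᵁ V) (g'.app V r)) =
          X'.presheaf.map (homOfLE ((g' ⁻¹ᵁ W).ι.image_preimage_le (g' ⁻¹ᵁ V))).op (g'.app V r) :=
        ConcreteCategory.congr_hom ((g' ⁻¹ᵁ W).ι.app_appIso_inv (g' ⁻¹ᵁ V)) (g'.app V r)
      have h3 : g'.app _ (X.presheaf.map (homOfLE (W.ι.image_preimage_le V)).op r) =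
          X'.presheaf.map (homOfLE (g'.preimage_mono (W.ι.image_preimage_le V))).op (g'.app V r) :=
        ConcreteCategory.congr_hom (g'.naturality (homOfLE (W.ι.image_preimage_le V)).op) r
      rw [h1, h2, h3, ← ConcreteCategory.comp_apply, ← Functor.map_comp]
      rfl)⟩

theorem tau_app (W : X.Opens) (N : X'.Modules) (V : X.Opens) :
    (tau g' W N).app V = N.presheaf.map (homOfLE (tau_le g' W V)).op := rfl

section Theta

variable {f g g' f'} {M : X.Modules} {N : X'.Modules} (a : M ⟶ (Scheme.Modules.pushforward g').obj N)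

/-- Restriction of `a : M ⟶ g'_* N` to `W`. -/
noncomputable def aW (W : X.Opens) : (pushRestr W).obj M ⟶
    (Scheme.Modules.pushforward g').obj ((pushRestr (g' ⁻¹ᵁ W)).obj N) :=
  (pushRestr W).map a ≫ tau g' W N

theorem aW_app (W V : X.Opens) (x : Γ((pushRestr W).obj M, V)) :
    (aW a W).app V x = N.presheaf.map (homOfLE (tau_le g' W V)).op (a.app (W.ι ''ᵁ (W.ι ⁻¹ᵁ V)) x) := rfl

variable (w : g' ≫ f = f' ≫ g)

/-- Base change map, on the members of the family. -/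
noncomputable def theta (W : X.Opens) :
    (PF' f M).obj (op W) ⟶ (Scheme.Modules.pushforward g).obj ((PF' f' N).obj (op (g' ⁻¹ᵁ W))) :=
  pushSquare f g g' f' w (aW a W)

theorem secMap_theta (W : X.Opens) (V : S.Opens) (V' : S'.Opens) (e : V' ≤ g ⁻¹ᵁ V)
    (e' : (interFun (g' ⁻¹ᵁ W)).obj (f' ⁻¹ᵁ V') ≤ g' ⁻¹ᵁ ((interFun W).obj (f ⁻¹ᵁ V)))
    (x : Γ(M, (interFun W).obj (f ⁻¹ᵁ V))) :
    secMap g (theta a w W) V V' e x = secMap g' a ((interFun W).obj (f ⁻¹ᵁ V))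
      ((interFun (g' ⁻¹ᵁ W)).obj (f' ⁻¹ᵁ V')) e' x := by
  refine (secMap_pushSquare f g g' f' w (aW a W) V V' e (preimage_le w V V' e) x).trans ?_
  exact map_map' N ((interFun (g' ⁻¹ᵁ W)).monotone (preimage_le w V V' e)) (tau_le g' W (f ⁻¹ᵁ V)) _

/-- `theta` on sections -/
noncomputable def thetaS (W : X.Opens) (T : S.Opens) (x : Γ((PF' f M).obj (op W), T)) :
    Γ((PF' f' N).obj (op (g' ⁻¹ᵁ W)), g ⁻¹ᵁ T) := (theta a w W).app T x

end Theta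

end K591.BCx
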