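import Groth.Agent.CechOX.K591.BCx

/-!
# Base change for the families `W ↦ f_* (j_W)_*(F|_W)`: naturality and universality
-/

set_option autoImplicit false

universe u

open CategoryTheory CategoryTheory.Limits AlgebraicGeometry Opposite TopologicalSpace Simplicial

namespace K591.BCy

open K591.FCx K591.ModLoc K591.Resol CechOX K591.HypFlasque K591.SecE K591.BCx
open Groth.Agent.CohqA.PullbackUniv Groth.Agent.CohqA.BaseChangeMod Groth.Agent.CohqA.PullbackAffine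
  Groth.Agent.CohqA.PullbackSections Groth.Agent.CohqA.PullbackQCoh
  Groth.Agent.CohqA.BaseChangePushout Groth.Agent.CohqA.AffineBaseChange

variable {X S X' S' : Scheme.{u}} {f : X ⟶ S} {g : S' ⟶ S} {g' : X' ⟶ X} {f' : X' ⟶ S'}

/-- sections of `f_* j_* (M|_W)` as sections of `M`. -/
noncomputable def tm (f : X ⟶ S) (M : X.Modules) (W : X.Opens) (T : S.Opens) :
    Γ((PF' f M).obj (op W), T) →+ Γ(M, (interFun W).obj (f ⁻¹ᵁ T)) := AddMonoidHom.id _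

theorem tm_bijective (f : X ⟶ S) (M : X.Modules) (W : X.Opens) (T : S.Opens) :
    Function.Bijective (tm f M W T) := Function.bijective_id

theorem tm_res (f : X ⟶ S) (M : X.Modules) (W : X.Opens) {T T' : S.Opens} (h : T' ≤ T)
    (h' : (interFun W).obj (f ⁻¹ᵁ T') ≤ (interFun W).obj (f ⁻¹ᵁ T)) (x : Γ((PF' f M).obj (op W), T)) :
    tm f M W T' (res _ h x) = res M h' (tm f M W T x) := rfl

theorem tm_map (f : X ⟶ S) (M : X.Modules) {W W' : X.Opens} (i : W' ⟶ W) (T : S.Opens)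
    (h' : (interFun W').obj (f ⁻¹ᵁ T) ≤ (interFun W).obj (f ⁻¹ᵁ T)) (x : Γ((PF' f M).obj (op W), T)) :
    tm f M W' T (((PF' f M).map i.op).app T x) = res M h' (tm f M W T x) := rfl

variable {M : X.Modules} {N : X'.Modules} (a : M ⟶ (Scheme.Modules.pushforward g').obj N)
variable (w : g' ≫ f = f' ≫ g)

/-- `a` on sections. -/
noncomputable def as (V : X.Opens) : Γ(M, V) →+ Γ(N, g' ⁻¹ᵁ V) := (a.app V).hom

theorem as_res {V V' : X.Opens} (h : V' ≤ V) (h' : g' ⁻¹ᵁ V' ≤ g' ⁻¹ᵁ V) (x : Γ(M, V)) :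
    as a V' (res M h x) = res N h' (as a V x) := ModLoc.app_res a h x

include w in
theorem le1 (W : X.Opens) (V : S.Opens) (V' : S'.Opens) (e : V' ≤ g ⁻¹ᵁ V) :
    (interFun (g' ⁻¹ᵁ W)).obj (f' ⁻¹ᵁ V') ≤ g' ⁻¹ᵁ ((interFun W).obj (f ⁻¹ᵁ V)) :=
  ((interFun (g' ⁻¹ᵁ W)).monotone (preimage_le w V V' e)).trans (tau_le g' W (f ⁻¹ᵁ V))

theorem tm_secMap_theta (W : X.Opens) (V : S.Opens) (V' : S'.Opens) (e : V' ≤ g ⁻¹ᵁ V)
    (x : Γ((PF' f M).obj (op W), V)) :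
    tm f' N (g' ⁻¹ᵁ W) V' ((secMap g (theta a w W) V V' e).hom x) =
      res N (le1 w W V V' e) (as a _ (tm f M W V x)) :=
  secMap_theta a w W V V' e (le1 w W V V' e) x

theorem tm_thetaS (W : X.Opens) (T : S.Opens) (x : Γ((PF' f M).obj (op W), T)) :
    tm f' N (g' ⁻¹ᵁ W) (g ⁻¹ᵁ T) (thetaS a w W T x) =
      res N (le1 w W T _ le_rfl) (as a _ (tm f M W T x)) := by
  rw [← tm_secMap_theta a w W T (g ⁻¹ᵁ T) le_rfl]
  exact congrArg (tm f' N (g' ⁻¹ᵁ W) (g ⁻¹ᵁ T)) (res_self ((PF' f' N).obj (op (g' ⁻¹ᵁ W))) le_rfl _).symm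

theorem thetaS_def (W : X.Opens) (T : S.Opens) (x : Γ((PF' f M).obj (op W), T)) :
    (theta a w W).app T x = thetaS a w W T x := rfl

/-- Preimages of an inclusion of opens. -/
abbrev pre (g' : X' ⟶ X) {W W' : X.Opens} (i : W' ⟶ W) : (g' ⁻¹ᵁ W') ⟶ (g' ⁻¹ᵁ W) :=
  homOfLE (g'.preimage_mono (leOfHom i))

theorem theta_naturality {W W' : X.Opens} (i : W' ⟶ W) :
    (PF' f M).map i.op ≫ theta a w W' =
      theta a w W ≫ (Scheme.Modules.pushforward g).map ((PF' f' N).map (pre g' i).op) := by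
  apply Scheme.Modules.hom_ext
  intro T
  ext x
  apply (tm_bijective f' N (g' ⁻¹ᵁ W') (g ⁻¹ᵁ T)).1
  have h1 : (interFun W').obj (f ⁻¹ᵁ T) ≤ (interFun W).obj (f ⁻¹ᵁ T) := image_preimage_mono (leOfHom i) _
  have h2 : (interFun (g' ⁻¹ᵁ W')).obj (f' ⁻¹ᵁ (g ⁻¹ᵁ T)) ≤ (interFun (g' ⁻¹ᵁ W)).obj (f' ⁻¹ᵁ (g ⁻¹ᵁ T)) :=
    image_preimage_mono (leOfHom (pre g' i)) _
  change tm f' N (g' ⁻¹ᵁ W') (g ⁻¹ᵁ T) (thetaS a w W' T (((PF' f M).map i.op).app T x)) =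
    tm f' N (g' ⁻¹ᵁ W') (g ⁻¹ᵁ T) (((PF' f' N).map (pre g' i).op).app (g ⁻¹ᵁ T) (thetaS a w W T x))
  rw [tm_map f' N (pre g' i) (g ⁻¹ᵁ T) h2, tm_thetaS, tm_thetaS, tm_map f M i T h1,
    as_res a h1 (g'.preimage_mono h1), res_res, res_res]

end K591.BCy
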