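import Groth.Agent.CohtopA.CechLES
import Groth.Agent.CohtopA.Sec
import Groth.Agent.CohtopB.Godement
import Mathlib.Topology.Sheaves.Flasque

/-!
# Cech complexes of flasque sheaves on a space, for simplicial families of opens with stalkwise contractions

`E` is a simplicial object in formal coproducts of opens of `X`.  If for each point `x` the simplicial set of members
containing `x` has an extra degeneracy (`XDegen E x`) then the complex of sections of a flasque sheaf is exact.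
-/

set_option autoImplicit false

universe u

open CategoryTheory CategoryTheory.Limits Opposite AlgebraicTopology Simplicial TopologicalSpace

namespace K591.HypFlasque

open Groth.Agent.CohtopA.CechInj Groth.Agent.CohtopA.CechLES Groth.Agent.CohtopA.Sec

variable {X : TopCat.{u}}

/-- The members of a formal coproduct of opens containing a point. -/
def PX (W : FormalCoproduct.{u} (Opens X)) (x : X) : Type u := {i : W.I // x ∈ W.obj i}

/-- Functoriality of `PX`. -/
def push {W W' : FormalCoproduct.{u} (Opens X)} (f : W ⟶ W') {x : X} (p : PX W x) : PX W' x :=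
  ⟨f.f p.1, leOfHom (f.φ p.1) p.2⟩

/-- An augmented extra degeneracy on the members containing a point. -/
structure XDegen (E : SimplicialObject (FormalCoproduct.{u} (Opens X))) (x : X) where
  /-- base vertex -/
  p₀ : PX (E _⦋0⦌) x
  /-- extra degeneracy -/
  s (n : ℕ) : PX (E _⦋n⦌) x → PX (E _⦋n + 1⦌) x
  s_δ₀ (n : ℕ) (y : PX (E _⦋n⦌) x) : push (E.δ 0) (s n y) = y
  s_δ (n : ℕ) (i : Fin (n + 2)) (y : PX (E _⦋n + 1⦌) x) :
    push (E.δ i.succ) (s (n + 1) y) = s n (push (E.δ i) y)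
  s_base (y : PX (E _⦋0⦌) x) : push (E.δ 1) (s 0 y) = p₀

/-- Intersection with an open. -/
def interV (V : Opens X) : Opens X ⥤ Opens X where
  obj W := V ⊓ W
  map f := homOfLE (inf_le_inf_left V (leOfHom f))

/-- The presheaf `W ↦ N(V ∩ W)`. -/
abbrev PV (N : CohTop.Ab X) (V : Opens X) : (Opens X)ᵒᵖ ⥤ AddCommGrpCat.{u} := (interV V).op ⋙ N.obj

variable (N : CohTop.Ab X) (V : Opens X)

/-- components of cochains -/
noncomputable def cpt {W : FormalCoproduct.{u} (Opens X)} (c : ev (PV N V) W) (i : W.I) : Γs N (V ⊓ W.obj i) :=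
  comp (PV N V) W i c

theorem cpt_ext {W : FormalCoproduct.{u} (Opens X)} {c c' : ev (PV N V) W}
    (h : ∀ i, cpt N V c i = cpt N V c' i) : c = c' := ev_ext (PV N V) h

theorem cpt_exists {W : FormalCoproduct.{u} (Opens X)} (t : ∀ i, Γs N (V ⊓ W.obj i)) :
    ∃ c : ev (PV N V) W, ∀ i, cpt N V c i = t i := ev_exists (PV N V) t

theorem cpt_zero {W : FormalCoproduct.{u} (Opens X)} (i : W.I) : cpt N V (0 : ev (PV N V) W) i = 0 :=
  map_zero (comp (PV N V) W i).hom

theorem cpt_congr {W : FormalCoproduct.{u} (Opens X)} (c : ev (PV N V) W) {i j : W.I} (hij : i = j) {O : Opens X}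
    (h : O ≤ V ⊓ W.obj i) (h' : O ≤ V ⊓ W.obj j) : r N h (cpt N V c i) = r N h' (cpt N V c j) := by
  subst hij
  rfl

theorem map_le {W W' : FormalCoproduct.{u} (Opens X)} (f : W ⟶ W') (i : W.I) :
    V ⊓ W.obj i ≤ V ⊓ W'.obj (f.f i) := inf_le_inf_left V (leOfHom (f.φ i))

theorem cpt_evMap {W W' : FormalCoproduct.{u} (Opens X)} (f : W ⟶ W') (c : ev (PV N V) W') (i : W.I) :
    cpt N V (evMap (PV N V) f c) i = r N (map_le V f i) (cpt N V c (f.f i)) :=
  comp_evMap (PV N V) f c i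

variable (E : SimplicialObject (FormalCoproduct.{u} (Opens X)))

theorem cpt_dEv {n : ℕ} (c : ev (PV N V) (E _⦋n⦌)) (i : (E _⦋n + 1⦌).I) :
    cpt N V (dEv (PV N V) E n c) i =
      ∑ k : Fin (n + 2), (-1 : ℤ) ^ (k : ℕ) • r N (map_le V (E.δ k) i) (cpt N V c ((E.δ k).f i)) := by
  simp_rw [← cpt_evMap]
  rw [dEv, ab_alt_apply]
  change (comp (PV N V) _ i) (∑ k : Fin (n + 2), (-1) ^ (k : ℕ) • (evMap (PV N V) (E.δ k)) c) = _
  rw [map_sum]
  simp_rw [map_zsmul]
  rfl

/-- The augmentation. -/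
def aug : E _⦋0⦌ ⟶ (FormalCoproduct.incl (Opens X)).obj (⊤ : Opens X) where
  f _ := PUnit.unit
  φ _ := homOfLE le_top

theorem cpt_augMap (y : Γs N (V ⊓ ⊤)) (i : (E _⦋0⦌).I) :
    cpt N V (augMap (aug E) (PV N V) y) i = r N (inf_le_inf_left V le_top) y :=
  comp_augMap (aug E) (PV N V) y i

variable {E} {V}

theorem sep_of_aug (hE : ∀ x ∈ V, Nonempty (XDegen E x)) (y y' : Γs N (V ⊓ ⊤))
    (h : ∀ i : (E _⦋0⦌).I, r N (inf_le_inf_left V le_top : V ⊓ (E _⦋0⦌).obj i ≤ V ⊓ ⊤) y =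
      r N (inf_le_inf_left V le_top) y') : y = y' := by
  apply sep
  intro x hx
  obtain ⟨D⟩ := hE x hx.1
  exact ⟨V ⊓ (E _⦋0⦌).obj D.p₀.1, inf_le_inf_left _ le_top, ⟨hx.1, D.p₀.2⟩, h _⟩

theorem augExact (hE : ∀ x ∈ V, Nonempty (XDegen E x)) : AugExact (aug E) (PV N V) where
  inj y y' h := by
    refine sep_of_aug N hE y y' fun i => ?_
    rw [← cpt_augMap, ← cpt_augMap, h]
  mem y := by
    refine cpt_ext N V fun i => ?_
    rw [cpt_dEv, cpt_zero, Fin.sum_univ_two, cpt_augMap, cpt_augMap, r_r, r_r]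
    simp
  lift c hc := by
    have hd : ∀ x ∈ V, ∃ D : XDegen E x, True := fun x hx => ⟨(hE x hx).some, trivial⟩
    have hU : V ⊓ ⊤ = iSup fun i : (E _⦋0⦌).I => V ⊓ (E _⦋0⦌).obj i := by
      apply le_antisymm
      · intro x hx
        obtain ⟨D, -⟩ := hd x hx.1
        exact Opens.mem_iSup.2 ⟨D.p₀.1, hx.1, D.p₀.2⟩
      · exact iSup_le fun i => inf_le_inf_left _ le_top
    obtain ⟨y, hy⟩ := glue' (F := N) (fun i : (E _⦋0⦌).I => V ⊓ (E _⦋0⦌).obj i) hU (fun i => cpt N V c i) (by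
      intro i j
      apply sep
      intro x hx
      obtain ⟨D, -⟩ := hd x hx.1.1
      -- the vertex `i` and the base vertex agree near `x`
      have key : ∀ (i : (E _⦋0⦌).I) (hi : x ∈ (E _⦋0⦌).obj i) (O : Opens X) (_ : O ≤ V)
          (_ : O ≤ (E _⦋1⦌).obj (D.s 0 ⟨i, hi⟩).1) (h1 : O ≤ V ⊓ (E _⦋0⦌).obj i)
          (h2 : O ≤ V ⊓ (E _⦋0⦌).obj D.p₀.1), r N h1 (cpt N V c i) = r N h2 (cpt N V c D.p₀.1) := by
        intro i hi O hOV hO h1 h2
        have e := congrArg (fun z => r N (le_inf hOV hO) (cpt N V z (D.s 0 ⟨i, hi⟩).1)) hc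
        dsimp only at e
        rw [cpt_dEv, cpt_zero, Fin.sum_univ_two, map_zero, map_add, map_zsmul, map_zsmul, r_r, r_r] at e
        have e0 : (E.δ (0 : Fin 2)).f (D.s 0 ⟨i, hi⟩).1 = i := congrArg Subtype.val (D.s_δ₀ 0 ⟨i, hi⟩)
        have e1 : (E.δ (1 : Fin 2)).f (D.s 0 ⟨i, hi⟩).1 = D.p₀.1 := congrArg Subtype.val (D.s_base ⟨i, hi⟩)
        rw [cpt_congr N V c e0 _ h1, cpt_congr N V c e1 _ h2] at e
        simp only [Fin.val_zero, pow_zero, one_zsmul, Fin.val_one, pow_one, neg_smul] at e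
        rw [← sub_eq_add_neg] at e
        exact sub_eq_zero.mp e
      let O : Opens X := V ⊓ ((E _⦋1⦌).obj (D.s 0 ⟨i, hx.1.2⟩).1 ⊓ (E _⦋1⦌).obj (D.s 0 ⟨j, hx.2.2⟩).1)
      have ei : O ≤ V ⊓ (E _⦋0⦌).obj i := by
        refine le_inf inf_le_left ?_
        have e0 : (E.δ (0 : Fin 2)).f (D.s 0 ⟨i, hx.1.2⟩).1 = i :=
          congrArg Subtype.val (D.s_δ₀ 0 ⟨i, hx.1.2⟩)
        refine (inf_le_right.trans inf_le_left).trans ((leOfHom ((E.δ (0 : Fin 2)).φ _)).trans ?_)
        rw [e0]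
      have ej : O ≤ V ⊓ (E _⦋0⦌).obj j := by
        refine le_inf inf_le_left ?_
        have e0 : (E.δ (0 : Fin 2)).f (D.s 0 ⟨j, hx.2.2⟩).1 = j :=
          congrArg Subtype.val (D.s_δ₀ 0 ⟨j, hx.2.2⟩)
        refine (inf_le_right.trans inf_le_right).trans ((leOfHom ((E.δ (0 : Fin 2)).φ _)).trans ?_)
        rw [e0]
      have ep : O ≤ V ⊓ (E _⦋0⦌).obj D.p₀.1 := by
        refine le_inf inf_le_left ?_
        have e0 : (E.δ (1 : Fin 2)).f (D.s 0 ⟨i, hx.1.2⟩).1 = D.p₀.1 :=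
          congrArg Subtype.val (D.s_base ⟨i, hx.1.2⟩)
        refine (inf_le_right.trans inf_le_left).trans ((leOfHom ((E.δ (1 : Fin 2)).φ _)).trans ?_)
        rw [e0]
      refine ⟨O, le_inf ei ej, ⟨hx.1.1, (D.s 0 ⟨i, hx.1.2⟩).2, (D.s 0 ⟨j, hx.2.2⟩).2⟩, ?_⟩
      rw [r_r, r_r, key i hx.1.2 O inf_le_left (inf_le_right.trans inf_le_left) ei ep,
        key j hx.2.2 O inf_le_left (inf_le_right.trans inf_le_right) ej ep])
    refine ⟨y, cpt_ext N V fun i => ?_⟩
    rw [cpt_augMap]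
    exact hy i

/-! ### Direct images from a discrete space -/

section Disc

variable {D : TopCat.{u}} [DiscreteTopology D] (G : CohTop.Ab D)

/-- the open point -/
def pt (d : D) : Opens D := ⟨{d}, isOpen_discrete _⟩

omit [DiscreteTopology D] in
theorem pt_le' {O : Opens D} {d : D} (P : Opens D) (hP : (P : Set D) = {d}) (hd : d ∈ O) : P ≤ O := by
  intro y hy
  have : y ∈ (P : Set D) := hy
  rw [hP, Set.mem_singleton_iff] at this
  exact this ▸ hd

theorem pt_le {O : Opens D} {d : D} (hd : d ∈ O) : pt d ≤ O := pt_le' (pt d) rfl hd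

theorem disc_exists (O : Opens D) (t : ∀ d (_ : d ∈ O), Γs G (pt d)) :
    ∃ s : Γs G O, ∀ d (hd : d ∈ O), r G (pt_le hd) s = t d hd := by
  obtain ⟨s, hs⟩ := glue' (F := G) (U := O) (fun d : O => pt d.1) (by
    apply le_antisymm
    · intro d hd
      exact Opens.mem_iSup.2 ⟨⟨d, hd⟩, rfl⟩
    · exact iSup_le fun d => pt_le d.2) (fun d => t d.1 d.2) (by
    rintro ⟨d, hd⟩ ⟨d', hd'⟩
    by_cases h : d = d'
    · subst h
      rfl
    · apply Groth.Agent.CohtopB.Godement.eq_of_isEmpty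
      rintro y ⟨hy, hy'⟩
      exact h ((Set.mem_singleton_iff.1 hy).symm.trans (Set.mem_singleton_iff.1 hy')))
  exact ⟨s, fun d hd => hs ⟨d, hd⟩⟩

theorem disc_ext {O : Opens D} {s s' : Γs G O} (h : ∀ d (hd : d ∈ O), r G (pt_le hd) s = r G (pt_le hd) s') :
    s = s' := by
  apply sep
  intro d hd
  exact ⟨pt d, pt_le hd, rfl, h d hd⟩

variable (f : D ⟶ X)

/-- value at a point of a section of the direct image -/
noncomputable def val {O : Opens X} (s : Γs ((CohTop.push f).obj G) O) (d : D) (hd : f d ∈ O) : Γs G (pt d) :=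
  r G (pt_le (O := (Opens.map f).obj O) hd) s

theorem val_r {O O' : Opens X} (h : O' ≤ O) (s : Γs ((CohTop.push f).obj G) O) (d : D) (hd : f d ∈ O') :
    val G f (r _ h s) d hd = val G f s d (h hd) :=
  r_r (F := G) ((Opens.map f).monotone h) (pt_le (O := (Opens.map f).obj O') hd) s

theorem val_ext {O : Opens X} {s s' : Γs ((CohTop.push f).obj G) O}
    (h : ∀ d (hd : f d ∈ O), val G f s d hd = val G f s' d hd) : s = s' :=
  disc_ext G (O := (Opens.map f).obj O) h

theorem val_exists (O : Opens X) (t : ∀ d (_ : f d ∈ O), Γs G (pt d)) :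
    ∃ s : Γs ((CohTop.push f).obj G) O, ∀ d (hd : f d ∈ O), val G f s d hd = t d hd :=
  disc_exists G ((Opens.map f).obj O) t

theorem val_zero {O : Opens X} (d : D) (hd : f d ∈ O) :
    val G f (0 : Γs ((CohTop.push f).obj G) O) d hd = 0 :=
  map_zero (r G (pt_le (O := (Opens.map f).obj O) hd))

theorem val_sum {O : Opens X} {J : Type*} (A : Finset J) (s : J → Γs ((CohTop.push f).obj G) O)
    (d : D) (hd : f d ∈ O) : val G f (∑ j ∈ A, s j) d hd = ∑ j ∈ A, val G f (s j) d hd :=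
  map_sum (r G (pt_le (O := (Opens.map f).obj O) hd)) s A

theorem val_zsmul {O : Opens X} (n : ℤ) (s : Γs ((CohTop.push f).obj G) O)
    (d : D) (hd : f d ∈ O) : val G f (n • s) d hd = n • val G f s d hd :=
  map_zsmul (r G (pt_le (O := (Opens.map f).obj O) hd)) n s

theorem val_congr {V : Opens X} {W : FormalCoproduct.{u} (Opens X)}
    (c : ev (PV ((CohTop.push f).obj G) V) W) {i j : W.I} (hij : i = j) (d : D)
    (h : f d ∈ V ⊓ W.obj i) (h' : f d ∈ V ⊓ W.obj j) :
    val G f (cpt _ V c i) d h = val G f (cpt _ V c j) d h' := by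
  subst hij
  rfl

theorem exact_disc (hE : ∀ x ∈ V, Nonempty (XDegen E x)) (n : ℕ)
    (c : ev (PV ((CohTop.push f).obj G) V) (E _⦋n + 1⦌)) (hc : dEv _ E (n + 1) c = 0) :
    ∃ b, dEv (PV ((CohTop.push f).obj G) V) E n b = c := by
  let Dg : ∀ x ∈ V, XDegen E x := fun x hx => (hE x hx).some
  have hb : ∀ i : (E _⦋n⦌).I, ∃ b : Γs ((CohTop.push f).obj G) (V ⊓ (E _⦋n⦌).obj i),
      ∀ d (hd : f d ∈ V ⊓ (E _⦋n⦌).obj i), val G f b d hd =
        val G f (cpt _ V c ((Dg (f d) hd.1).s n ⟨i, hd.2⟩).1) d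
          ⟨hd.1, ((Dg (f d) hd.1).s n ⟨i, hd.2⟩).2⟩ :=
    fun i => val_exists G f _ _
  choose b hb using hb
  obtain ⟨y, hy⟩ := cpt_exists ((CohTop.push f).obj G) V b
  refine ⟨y, cpt_ext _ V fun i => val_ext G f fun d hd => ?_⟩
  have e := congrArg (fun z => val G f (cpt _ V z ((Dg (f d) hd.1).s (n + 1) ⟨i, hd.2⟩).1) d
    ⟨hd.1, ((Dg (f d) hd.1).s (n + 1) ⟨i, hd.2⟩).2⟩) hc
  dsimp only at e
  rw [cpt_dEv, cpt_zero, val_zero, val_sum, Fin.sum_univ_succ] at e
  rw [cpt_dEv, val_sum]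
  have e0 : (E.δ (0 : Fin (n + 3))).f ((Dg (f d) hd.1).s (n + 1) ⟨i, hd.2⟩).1 = i :=
    congrArg Subtype.val ((Dg (f d) hd.1).s_δ₀ (n + 1) ⟨i, hd.2⟩)
  rw [val_zsmul, val_r, val_congr G f c e0 d _ hd, Fin.val_zero, pow_zero, one_zsmul] at e
  rw [eq_neg_of_add_eq_zero_left e, ← Finset.sum_neg_distrib]
  refine Finset.sum_congr rfl fun k _ => ?_
  have hk : f d ∈ (E _⦋n⦌).obj ((E.δ k).f i) := leOfHom ((E.δ k).φ i) hd.2
  have ek : (E.δ k.succ).f ((Dg (f d) hd.1).s (n + 1) ⟨i, hd.2⟩).1 =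
      ((Dg (f d) hd.1).s n ⟨(E.δ k).f i, hk⟩).1 :=
    congrArg Subtype.val ((Dg (f d) hd.1).s_δ n k ⟨i, hd.2⟩)
  rw [val_zsmul, val_r, hy, hb, val_zsmul, val_r, val_congr G f c ek d _
    ⟨hd.1, ((Dg (f d) hd.1).s n ⟨(E.δ k).f i, hk⟩).2⟩, Fin.val_succ, pow_succ]
  simp

theorem isZero_homology_disc (hE : ∀ x ∈ V, Nonempty (XDegen E x)) (n : ℕ) :
    IsZero ((cx E (PV ((CohTop.push f).obj G) V)).homology (n + 1)) := by
  rw [← HomologicalComplex.exactAt_iff_isZero_homology]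
  exact (cochain_exactAt_iff (PV ((CohTop.push f).obj G) V) n).2 (exact_disc G f hE n)

end Disc

/-! ### Flasque sheaves -/

/-- The identity map from the discrete space. -/
noncomputable abbrev dmap (X : TopCat.{u}) : TopCat.discrete.obj ((forget TopCat).obj X) ⟶ X :=
  TopCat.adj₁.counit.app X

instance (X : TopCat.{u}) : DiscreteTopology (TopCat.discrete.obj ((forget TopCat).obj X)) := ⟨rfl⟩

/-- Godement sheaf -/
noncomputable abbrev God (N : CohTop.Ab X) : CohTop.Ab X :=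
  (CohTop.push (dmap X)).obj ((CohTop.pull (dmap X)).obj N)

/-- the embedding in the Godement sheaf -/
noncomputable abbrev godι (N : CohTop.Ab X) : N ⟶ God N :=
  (TopCat.Sheaf.pullbackPushforwardAdjunction AddCommGrpCat.{u} (dmap X)).unit.app N

instance (N : CohTop.Ab X) : Mono (godι N) :=
  Groth.Agent.CohtopB.Godement.mono_unit_of_surjective (dmap X) (fun x => ⟨x, rfl⟩) N

theorem isFlasque_God (N : CohTop.Ab X) : TopCat.Sheaf.IsFlasque (God N) :=
  Groth.Agent.CohtopB.Godement.isFlasque_push_of_discrete _ _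

/-- The Godement sequence. -/
noncomputable abbrev SG (N : CohTop.Ab X) : ShortComplex (CohTop.Ab X) :=
  ShortComplex.mk (godι N) (cokernel.π (godι N)) (cokernel.condition _)

theorem SG_shortExact (N : CohTop.Ab X) : (SG N).ShortExact :=
  { exact := ShortComplex.exact_of_g_is_cokernel _ (cokernelIsCokernel _)
    mono_f := inferInstanceAs (Mono (godι N))
    epi_g := inferInstanceAs (Epi (cokernel.π (godι N))) }

theorem isFlasque_X₃ (N : CohTop.Ab X) (hN : TopCat.Sheaf.IsFlasque N) :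
    TopCat.Sheaf.IsFlasque (SG N).X₃ := by
  have h1 : TopCat.Sheaf.IsFlasque (SG N).X₁ := hN
  have h2 : TopCat.Sheaf.IsFlasque (SG N).X₂ := isFlasque_God N
  exact TopCat.Sheaf.IsFlasque.of_shortExact_of_isFlasque₁₂ (X := X) (S := SG N) (SG_shortExact N)

/-- the short complex of presheaves -/
noncomputable abbrev SP (V : Opens X) (S : ShortComplex (CohTop.Ab X)) :
    ShortComplex ((Opens X)ᵒᵖ ⥤ AddCommGrpCat.{u}) :=
  ShortComplex.mk (X₁ := PV S.X₁ V) (X₂ := PV S.X₂ V) (X₃ := PV S.X₃ V)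
    (Functor.whiskerLeft (interV V).op S.f.hom) (Functor.whiskerLeft (interV V).op S.g.hom) (by
      rw [← Functor.whiskerLeft_comp, ← ObjectProperty.FullSubcategory.comp_hom, S.zero]
      rfl)

theorem evSP_shortExact (V : Opens X) {S : ShortComplex (CohTop.Ab X)} (hS : S.ShortExact)
    (h : TopCat.Sheaf.IsFlasque S.X₁) (W : Opens X) :
    ((SP V S).map ((evaluation (Opens X)ᵒᵖ AddCommGrpCat.{u}).obj (op W))).ShortExact where
  exact := by
    rw [ShortComplex.ab_exact_iff]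
    exact fun x hx => exact_lift (U := V ⊓ W) hS x hx
  mono_f := by
    rw [AddCommGrpCat.mono_iff_injective]
    have := hS.mono_f
    exact m_injective S.f (V ⊓ W)
  epi_g := TopCat.Sheaf.IsFlasque.epi_of_shortExact (X := X) (U := V ⊓ W) (S := S) hS

theorem isZero_homology (hE : ∀ x ∈ V, Nonempty (XDegen E x)) (n : ℕ) :
    ∀ (N : CohTop.Ab X) (_ : TopCat.Sheaf.IsFlasque N), IsZero ((cx E (PV N V)).homology (n + 1)) := by
  induction n with
  | zero =>
    intro N hN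
    have hS := cechSC_shortExact E (SP V (SG N)) fun n i => evSP_shortExact V (SG_shortExact N) hN _
    have h3 : AugExact (aug E) (SP V (SG N)).X₃ := augExact _ hE
    have h2 : AugExact (aug E) (SP V (SG N)).X₂ := augExact _ hE
    have hs := conn_surjective hS h3 (isZero_homology_disc _ _ hE 0)
    have : Subsingleton ((cx E (PV N V)).homology (0 + 1)) := by
      refine ⟨fun a b => ?_⟩
      have hz : ∀ a : (cx E (PV N V)).homology (0 + 1), a = 0 := by
        intro a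
        obtain ⟨x, rfl⟩ := hs a
        rw [conn_eq_zero_iff hS h2 h3]
        have := (evSP_shortExact V (SG_shortExact N) hN ⊤).epi_g
        exact (AddCommGrpCat.epi_iff_surjective _).1 this x
      rw [hz a, hz b]
    exact AddCommGrpCat.isZero_of_subsingleton _
  | succ n ih =>
    intro N hN
    have hS := cechSC_shortExact E (SP V (SG N)) fun n i => evSP_shortExact V (SG_shortExact N) hN _
    have h1 := hS.homology_exact₁ (n + 1) (n + 2) rfl
    refine h1.isZero_of_both_zeros ?_ ?_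
    · exact (ih _ (isFlasque_X₃ N hN)).eq_of_src _ _
    · exact (isZero_homology_disc _ _ hE (n + 1)).eq_of_tgt _ _

end K591.HypFlasque
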