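import Groth.Agent.CechOX.K591.CechGen
import Groth.Agent.CechOX.K591.HypFlasque

/-!
# The Čech simplicial object of a family of opens
-/

set_option autoImplicit false

universe u

open CategoryTheory CategoryTheory.Limits Opposite TopologicalSpace Simplicial

namespace K591.CechE

open K591.HypFlasque K591.CechGen

variable {X : TopCat.{u}} {ι : Type u} (𝒰 : ι → Opens X)

/-- The Čech simplicial object. -/
noncomputable abbrev EC : SimplicialObject (FormalCoproduct.{u} (Opens X)) := (FormalCoproduct.mk _ 𝒰).cech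

theorem EC_obj (n : ℕ) (i : Fin (n+1) → ι) : ((EC 𝒰) _⦋n⦌).obj i = ∏ᶜ (𝒰 ∘ i) := rfl

theorem EC_δ (n : ℕ) (k : Fin (n+2)) (i : Fin (n+2) → ι) : ((EC 𝒰).δ k).f i = i ∘ k.succAbove := rfl

theorem mem_EC (x : X) (n : ℕ) (i : Fin (n+1) → ι) : x ∈ ((EC 𝒰) _⦋n⦌).obj i ↔ ∀ a, x ∈ 𝒰 (i a) := by
  rw [EC_obj, prod_eq_iInf, ← SetLike.mem_coe, Opens.coe_iInf, Set.mem_iInter]
  rfl

instance (n : ℕ) [Finite ι] : Finite ((EC 𝒰) _⦋n⦌).I := inferInstanceAs (Finite (Fin (n+1) → ι))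

/-- Contraction at a point of a member of the family. -/
noncomputable def xdegen (x : X) (i₀ : ι) (h : x ∈ 𝒰 i₀) : XDegen (EC 𝒰) x where
  p₀ := ⟨fun _ => i₀, (mem_EC 𝒰 x 0 _).2 fun _ => h⟩
  s n y := ⟨(Fin.cons i₀ (show Fin (n+1) → ι from y.1) : Fin (n+2) → ι), (mem_EC 𝒰 x (n+1) _).2 fun a => by
    refine Fin.cases ?_ (fun b => ?_) a
    · exact h
    · exact (mem_EC 𝒰 x n _).1 y.2 b⟩
  s_δ₀ n y := Subtype.ext (funext fun a => rfl)
  s_δ n i y := Subtype.ext (funext fun a => by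
    change (Fin.cons i₀ (show Fin (n+2) → ι from y.1) : Fin (n+3) → ι) (i.succ.succAbove a) =
      (Fin.cons i₀ ((show Fin (n+2) → ι from y.1) ∘ i.succAbove) : Fin (n+2) → ι) a
    refine Fin.cases ?_ (fun b => ?_) a
    · rfl
    · rw [Fin.succ_succAbove_succ]
      rfl)
  s_base y := Subtype.ext (funext fun a => by
    change (Fin.cons i₀ (show Fin 1 → ι from y.1) : Fin 2 → ι) ((1 : Fin 2).succAbove a) = i₀
    obtain rfl : a = (0 : Fin 1) := Subsingleton.elim (α := Fin 1) _ _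
    rfl)

theorem nonempty_xdegen (hcov : ⨆ i, 𝒰 i = ⊤) (x : X) : Nonempty (XDegen (EC 𝒰) x) := by
  have hx : x ∈ (⨆ i, 𝒰 i : Opens X) := by
    rw [hcov]
    trivial
  obtain ⟨i, hi⟩ := Opens.mem_iSup.1 hx
  exact ⟨xdegen 𝒰 x i hi⟩

end K591.CechE
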