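import Groth.Agent.CechOX.K591.Main1
import Groth.Agent.CechOX.K591.CechE
import Groth.Agent.Sga67.CohBasic
import Groth.Agent.Ega1.QcqsPush

/-!
# The relative Čech complex as `𝔠(E, F)`, and quasi-coherence of the terms
-/

set_option autoImplicit false

universe u

open CategoryTheory CategoryTheory.Limits AlgebraicGeometry Opposite TopologicalSpace Simplicial ComplexShape

namespace K591.RelIso

open K591.FCx K591.ModLoc K591.Resol CechOX K591.HypFlasque K591.SecE K591.Main1 K591.CechE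

variable {X S : Scheme.{u}} (f : X ⟶ S)

section Qcoh

theorem isQCoh_PF' (W : X.Opens) [IsAffineHom (W.ι ≫ f)] (F : X.Modules) (hF : Coh.IsQCoh F) :
    Coh.IsQCoh ((PF' f F).obj (op W)) := by
  have h1 : Coh.IsQCoh (F.restrict W.ι) := Groth.Agent.PerfA.QCohSerre.isQCoh_restrict W.ι hF
  have h2 : Coh.IsQCoh ((Scheme.Modules.pushforward (W.ι ≫ f)).obj (F.restrict W.ι)) :=
    Groth.Agent.Ega1.QcqsPush.isQCoh_pushforward (W.ι ≫ f) (F.restrict W.ι) h1
  exact Groth.Agent.Sga67.CohBasic.isQCoh_of_iso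
    ((Scheme.Modules.pushforwardComp W.ι f).symm.app (F.restrict W.ι)) h2

variable (E : SimplicialObject (FormalCoproduct.{u} X.Opens))

theorem isQCoh_CX [∀ n, Finite (E _⦋n⦌).I]
    (hA : ∀ (n : ℕ) (i : (E _⦋n⦌).I), IsAffineHom (((E _⦋n⦌).obj i).ι ≫ f))
    (F : X.Modules) (hF : Coh.IsQCoh F) (n : ℕ) : Coh.IsQCoh (CX E (PF' f F) n) :=
  Groth.Agent.Sga67.CohBasic.isQCoh_pi _ fun i => by
    have := hA n i
    exact isQCoh_PF' f ((E _⦋n⦌).obj i) F hF

theorem isQCoh_zero {M : S.Modules} (hM : IsZero M) : Coh.IsQCoh M := by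
  have h : Coh.IsQCoh (∏ᶜ fun j : PEmpty.{u+1} => (j.elim : S.Modules)) :=
    Groth.Agent.Sga67.CohBasic.isQCoh_pi _ fun j => j.elim
  refine Groth.Agent.Sga67.CohBasic.isQCoh_of_iso (IsZero.iso ?_ hM) h
  rw [IsZero.iff_id_eq_zero]
  exact Pi.hom_ext _ _ fun j => j.elim

theorem isQCoh_extend [∀ n, Finite (E _⦋n⦌).I]
    (hA : ∀ (n : ℕ) (i : (E _⦋n⦌).I), IsAffineHom (((E _⦋n⦌).obj i).ι ≫ f))
    (F : X.Modules) (hF : Coh.IsQCoh F) (k : ℤ) : Coh.IsQCoh (((FZ f E).obj F).X k) := by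
  rcases lt_or_ge k 0 with h | h
  · exact isQCoh_zero (isZero_FZ f E F k h)
  · obtain ⟨m, rfl⟩ : ∃ m : ℕ, (m : ℤ) = k := ⟨k.toNat, by lia⟩
    exact Groth.Agent.Sga67.CohBasic.isQCoh_of_iso (exX f E F m rfl) (isQCoh_CX f E hA F hF m)

end Qcoh

section Cech

variable {ι : Type u} (𝒰 : ι → X.Opens)

/-- The Čech simplicial object. -/
noncomputable def ECS : SimplicialObject (FormalCoproduct.{u} X.Opens) := EC (X := X.toTopCat) 𝒰

instance (n : ℕ) [Finite ι] : Finite ((ECS 𝒰) _⦋n⦌).I := inferInstanceAs (Finite (Fin (n+1) → ι))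

theorem nonempty_xdegen (hcov : ⨆ i, 𝒰 i = ⊤) (x : X) : Nonempty (XDegen (ECS 𝒰) x) :=
  K591.CechE.nonempty_xdegen (X := X.toTopCat) 𝒰 hcov x

/-- The relative Čech complex is `𝔠(E, F)` for the Čech simplicial object. -/
noncomputable def relCechIso (F : X.Modules) : (CechOX.relCech 𝒰 f).obj F ≅ cx (ECS 𝒰) (PF' f F) :=
  mapIso (EC (X := X.toTopCat) 𝒰) (pushRestrFam.flip.obj F) (Scheme.Modules.pushforward f)

/-- Its extension to `ℤ`. -/
noncomputable def relCechZIso (F : X.Modules) : CechOX.relCechZ 𝒰 f F ≅ (FZ f (ECS 𝒰)).obj F :=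
  (embeddingUpNat.extendFunctor S.Modules).mapIso (relCechIso f 𝒰 F)

end Cech

/-! ### Affineness -/

/-- A morphism from an affine scheme to a scheme with affine diagonal is affine. -/
theorem isAffineHom_of_isAffine {W : Scheme.{u}} [IsAffine W] (g : W ⟶ S)
    [hS : IsAffineHom (pullback.diagonal (terminal.from S))] : IsAffineHom g := by
  set p := terminal.from S
  set gr : W ⟶ pullback (g ≫ p) p := pullback.lift (𝟙 W) g (by simp)
  have e : gr ≫ pullback.snd (g ≫ p) p = g := pullback.lift_snd _ _ _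
  have h1 : IsAffineHom gr :=
    MorphismProperty.of_isPullback (P := @IsAffineHom) (pullback_lift_diagonal_isPullback g p) hS
  have h2 : IsAffineHom (g ≫ p) := inferInstance
  have h3 : IsAffineHom (pullback.snd (g ≫ p) p) := MorphismProperty.pullback_snd (P := @IsAffineHom) _ _ h2
  have h4 : IsAffineHom (gr ≫ pullback.snd (g ≫ p) p) := MorphismProperty.comp_mem @IsAffineHom _ _ h1 h3
  rw [e] at h4
  exact h4

theorem isAffineHom_ι_comp [IsAffineHom (pullback.diagonal (terminal.from S))] {W : X.Opens} (hW : IsAffineOpen W) :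
    IsAffineHom (W.ι ≫ f) := by
  have : IsAffine (W : Scheme.{u}) := hW
  exact isAffineHom_of_isAffine _

variable {ι : Type u} (𝒰 : ι → X.Opens)

theorem isAffineOpen_EC [IsAffineHom (pullback.diagonal (terminal.from X))] (h𝒰 : ∀ i, IsAffineOpen (𝒰 i))
    (n : ℕ) (i : ((ECS 𝒰) _⦋n⦌).I) : IsAffineOpen (((ECS 𝒰) _⦋n⦌).obj i) := by
  have e : (((ECS 𝒰) _⦋n⦌).obj i) = ⨅ a, 𝒰 ((show Fin (n+1) → ι from i) a) :=
    K591.CechGen.prod_eq_iInf (X := X.toTopCat) 𝒰 _
  rw [e]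
  exact IsAffineOpen.iInf (X := X) fun a => h𝒰 _

theorem isAffineHom_EC [IsAffineHom (pullback.diagonal (terminal.from X))]
    [IsAffineHom (pullback.diagonal (terminal.from S))] (h𝒰 : ∀ i, IsAffineOpen (𝒰 i))
    (n : ℕ) (i : ((ECS 𝒰) _⦋n⦌).I) : IsAffineHom ((((ECS 𝒰) _⦋n⦌).obj i).ι ≫ f) :=
  isAffineHom_ι_comp f (isAffineOpen_EC 𝒰 h𝒰 n i)

end K591.RelIso
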