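import Groth.Agent.CechOX.K591.BCy
import Groth.Agent.CechOX.K591.RelIso

/-!
# Universality of the base change maps
-/

set_option autoImplicit false

universe u

open CategoryTheory CategoryTheory.Limits AlgebraicGeometry Opposite TopologicalSpace Simplicial

namespace K591.BCz

open K591.FCx K591.ModLoc K591.Resol CechOX K591.HypFlasque K591.SecE K591.BCx K591.BCy
open Groth.Agent.CohqA.PullbackUniv Groth.Agent.CohqA.BaseChangeMod Groth.Agent.CohqA.PullbackAffine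
  Groth.Agent.CohqA.PullbackSections Groth.Agent.CohqA.PullbackQCoh
  Groth.Agent.CohqA.BaseChangePushout Groth.Agent.CohqA.AffineBaseChange

variable {X S X' S' : Scheme.{u}} {f : X ⟶ S} {g : S' ⟶ S} {g' : X' ⟶ X} {f' : X' ⟶ S'}

theorem interFun_le (f : X ⟶ S) (W : X.Opens) (V : S.Opens) : (interFun W).obj (f ⁻¹ᵁ V) ≤ f ⁻¹ᵁ V :=
  W.ι.image_preimage_le _

theorem tm_smul (f : X ⟶ S) (M : X.Modules) (W : X.Opens) (V : S.Opens) (r : Γ(S, V))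
    (x : Γ((PF' f M).obj (op W), V)) :
    tm f M W V (r • x) = (f.appLE V ((interFun W).obj (f ⁻¹ᵁ V)) (interFun_le f W V)).hom r • tm f M W V x := by
  have h1 : (W.ι.appIso (W.ι ⁻¹ᵁ (f ⁻¹ᵁ V))).inv (W.ι.app (f ⁻¹ᵁ V) (f.app V r)) =
      X.presheaf.map (homOfLE (W.ι.image_preimage_le (f ⁻¹ᵁ V))).op (f.app V r) :=
    ConcreteCategory.congr_hom (W.ι.app_appIso_inv (f ⁻¹ᵁ V)) (f.app V r)
  change (show Γ(X, (interFun W).obj (f ⁻¹ᵁ V)) from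
    (W.ι.appIso (W.ι ⁻¹ᵁ (f ⁻¹ᵁ V))).inv (W.ι.app (f ⁻¹ᵁ V) (f.app V r))) •
    (show Γ(M, (interFun W).obj (f ⁻¹ᵁ V)) from x) = _
  rw [h1]
  rfl

theorem isAffineOpen_interFun (f : X ⟶ S) (W : X.Opens) [IsAffineHom (W.ι ≫ f)] {V : S.Opens}
    (hV : IsAffineOpen V) : IsAffineOpen ((interFun W).obj (f ⁻¹ᵁ V)) :=
  (hV.preimage (W.ι ≫ f)).image_of_isOpenImmersion W.ι

theorem isPullback_restrict (h : IsPullback g' f' f g) (W : X.Opens) :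
    IsPullback (g' ∣_ W) ((g' ⁻¹ᵁ W).ι ≫ f') (W.ι ≫ f) g :=
  (isPullback_morphismRestrict g' W).paste_vert h

theorem isAffineHom_restrict (h : IsPullback g' f' f g) (W : X.Opens) [IsAffineHom (W.ι ≫ f)] :
    IsAffineHom ((g' ⁻¹ᵁ W).ι ≫ f') :=
  MorphismProperty.of_isPullback (P := @IsAffineHom) (isPullback_restrict h W) ‹_›

theorem isPushout_appLE' (h : IsPullback g' f' f g) (W : X.Opens) [IsAffineHom (W.ι ≫ f)] {V : S.Opens}
    {V' : S'.Opens} (hV : IsAffineOpen V) (hV' : IsAffineOpen V') (e : V' ≤ g ⁻¹ᵁ V) :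
    IsPushout (g.appLE V V' e) (f.appLE V ((interFun W).obj (f ⁻¹ᵁ V)) (interFun_le f W V))
      (f'.appLE V' ((interFun (g' ⁻¹ᵁ W)).obj (f' ⁻¹ᵁ V')) (interFun_le f' _ V'))
      (g'.appLE ((interFun W).obj (f ⁻¹ᵁ V)) ((interFun (g' ⁻¹ᵁ W)).obj (f' ⁻¹ᵁ V')) (le1 h.w W V V' e)) := by
  have hUY : (interFun (g' ⁻¹ᵁ W)).obj (f' ⁻¹ᵁ V') = g' ⁻¹ᵁ ((interFun W).obj (f ⁻¹ᵁ V)) ⊓ f' ⁻¹ᵁ V' := by
    have e1 : f' ⁻¹ᵁ V' ≤ g' ⁻¹ᵁ (f ⁻¹ᵁ V) := preimage_le h.w V V' e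
    rw [interFun_eq, interFun_eq]
    change g' ⁻¹ᵁ W ⊓ f' ⁻¹ᵁ V' = (g' ⁻¹ᵁ W ⊓ g' ⁻¹ᵁ (f ⁻¹ᵁ V)) ⊓ f' ⁻¹ᵁ V'
    rw [inf_assoc, inf_eq_right.2 e1]
  have h1 := isIso_pushoutSection_of_isAffineOpen h (US := V) (UT := V') (UX := (interFun W).obj (f ⁻¹ᵁ V))
    e (interFun_le f W V) hUY hV hV' (isAffineOpen_interFun f W hV)
  exact ((isIso_pushoutSection_iff ..).1 h1).flip

/-- **Base change for the members of the family.** -/
theorem isUniv_theta (h : IsPullback g' f' f g) (W : X.Opens) [IsAffineHom (W.ι ≫ f)] {M : X.Modules}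
    {N : X'.Modules} (hM : M.IsQuasicoherent) (a : M ⟶ (Scheme.Modules.pushforward g').obj N) (ha : IsUniv g' a) :
    IsUniv g (theta a h.w W) := by
  have hN : N.IsQuasicoherent := isQuasicoherent_of_isUniv g' a ha
  have hA := isAffineHom_restrict h W
  have h1 : ((PF' f M).obj (op W)).IsQuasicoherent := K591.RelIso.isQCoh_PF' f W M hM
  have h2 : ((PF' f' N).obj (op (g' ⁻¹ᵁ W))).IsQuasicoherent := K591.RelIso.isQCoh_PF' f' (g' ⁻¹ᵁ W) N hN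
  refine isUniv_of_isBC_cover g _ fun y => ?_
  obtain ⟨V, V', hV, hV', hy, e⟩ := exists_affine_pair g y
  refine ⟨V, V', hV, hV', e, hy, ?_⟩
  have h3 := isBC_secMap g' a ha (isAffineOpen_interFun f W hV) (isAffineOpen_interFun f' (g' ⁻¹ᵁ W) hV')
    (le1 h.w W V V' e)
  have h4 : secMap g (theta a h.w W) V V' e =
      secMap g' a ((interFun W).obj (f ⁻¹ᵁ V)) ((interFun (g' ⁻¹ᵁ W)).obj (f' ⁻¹ᵁ V')) (le1 h.w W V V' e) := by
    ext x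
    exact tm_secMap_theta a h.w W V V' e x
  rw [h4]
  let : Module Γ(S, V) Γ(M, (interFun W).obj (f ⁻¹ᵁ V)) := (((PF' f M).obj (op W)).val.obj (.op V)).isModule
  let : Module Γ(S', V') Γ(N, (interFun (g' ⁻¹ᵁ W)).obj (f' ⁻¹ᵁ V')) :=
    (((PF' f' N).obj (op (g' ⁻¹ᵁ W))).val.obj (.op V')).isModule
  exact isBC_of_isPushout (M := Γ(M, (interFun W).obj (f ⁻¹ᵁ V)))
    (M' := Γ(N, (interFun (g' ⁻¹ᵁ W)).obj (f' ⁻¹ᵁ V')))
    (isPushout_appLE' h W hV hV' e) (fun r x => tm_smul f M W V r x)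
    (fun r x => tm_smul f' N (g' ⁻¹ᵁ W) V' r x) h3

end K591.BCz
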