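import Groth.Agent.CechOX.K591.BCz

/-!
# Base change for the complexes `𝔠(E, F)`
-/

set_option autoImplicit false

universe w u v₁ v₂ u₁ u₂

open CategoryTheory CategoryTheory.Limits AlgebraicGeometry Opposite TopologicalSpace Simplicial

namespace K591.BaseCh

open K591.FCx K591.ModLoc K591.Resol CechOX K591.HypFlasque K591.SecE K591.BCx K591.BCy K591.BCz
open Groth.Agent.CohqA.PullbackUniv

section

variable {C : Type u₁} [Category.{v₁} C] {D : Type u₂} [Category.{v₂} D] (G : C ⥤ D)

/-- Functoriality of formal coproducts. -/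
@[simps]
def fcMap : FormalCoproduct.{w} C ⥤ FormalCoproduct.{w} D where
  obj U := ⟨U.I, fun i => G.obj (U.obj i)⟩
  map f := ⟨f.f, fun i => G.map (f.φ i)⟩
  map_id U := FormalCoproduct.hom_ext rfl (fun i => by
    rw [eqToHom_refl, Category.comp_id]
    exact G.map_id _)
  map_comp f g := FormalCoproduct.hom_ext rfl (fun i => by
    rw [eqToHom_refl, Category.comp_id]
    exact G.map_comp _ _)

/-- Functoriality for simplicial objects. -/
abbrev smap (E : SimplicialObject (FormalCoproduct.{w} C)) : SimplicialObject (FormalCoproduct.{w} D) :=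
  ((SimplicialObject.whiskering _ _).obj (fcMap G)).obj E

variable {A : Type*} [Category* A] [Preadditive A] [HasProducts.{w} A] (P : Dᵒᵖ ⥤ A)

/-- Change of family. -/
noncomputable def smapIso (E : SimplicialObject (FormalCoproduct.{w} C)) :
    cx (smap G E) P ≅ cx E (G.op ⋙ P) := Iso.refl _

end

variable {X S X' S' : Scheme.{u}} {f : X ⟶ S} {g : S' ⟶ S} {g' : X' ⟶ X} {f' : X' ⟶ S'}
variable {M : X.Modules} {N : X'.Modules} (a : M ⟶ (Scheme.Modules.pushforward g').obj N)
variable (w : g' ≫ f = f' ≫ g)

/-- The preimage functor on opens. -/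
noncomputable abbrev om (g' : X' ⟶ X) : X.Opens ⥤ X'.Opens := TopologicalSpace.Opens.map g'.base

/-- The base change map, as a morphism of presheaves of `O_S`-modules. -/
noncomputable def Theta : PF' f M ⟶ ((om g').op ⋙ PF' f' N) ⋙ Scheme.Modules.pushforward g where
  app W := theta a w W.unop
  naturality _ _ i := theta_naturality a w i.unop

/-- The adjoint base change map. -/
noncomputable def Phi : PF' f M ⋙ Scheme.Modules.pullback g ⟶ (om g').op ⋙ PF' f' N where
  app W := ((Scheme.Modules.pullbackPushforwardAdjunction g).homEquiv _ _).symm ((Theta a w).app W)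
  naturality _ _ i := by
    change (Scheme.Modules.pullback g).map ((PF' f M).map i) ≫ _ = _
    rw [← Adjunction.homEquiv_naturality_left_symm, (Theta a w).naturality i]
    exact Adjunction.homEquiv_naturality_right_symm _ _ _

theorem isIso_Phi_app (h : IsPullback g' f' f g) (W : X.Opens) [IsAffineHom (W.ι ≫ f)]
    (hM : M.IsQuasicoherent) (ha : IsUniv g' a) : IsIso ((Phi a h.w).app (op W)) :=
  (isUniv_iff_isIso g (theta a h.w W)).1 (isUniv_theta h W hM a ha)

/-- **Base change for `𝔠(E, F)`**. -/
theorem nonempty_baseIso (h : IsPullback g' f' f g) [(Scheme.Modules.pullback g).Additive]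
    (E : SimplicialObject (FormalCoproduct.{u} X.Opens)) [∀ n, Finite (E _⦋n⦌).I]
    (hA : ∀ (n : ℕ) (i : (E _⦋n⦌).I), IsAffineHom (((E _⦋n⦌).obj i).ι ≫ f))
    (hM : M.IsQuasicoherent) (ha : IsUniv g' a) :
    Nonempty (((Scheme.Modules.pullback g).mapHomologicalComplex (ComplexShape.up ℕ)).obj (cx E (PF' f M)) ≅
      cx (smap (om g') E) (PF' f' N)) := by
  have : IsIso (cxMap E (Phi a h.w)) := isIso_cxMap E (Phi a h.w) fun n i => by
    have := hA n i
    exact isIso_Phi_app a h _ hM ha
  exact ⟨mapIso E (PF' f M) (Scheme.Modules.pullback g) ≪≫ asIso (cxMap E (Phi a h.w)) ≪≫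
    (smapIso (om g') (PF' f' N) E).symm⟩

end K591.BaseCh
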