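import Mathlib.CategoryTheory.Sites.SheafCohomology.Cech
import Mathlib.Topology.Sheaves.Presheaf
import Mathlib.CategoryTheory.Limits.Lattice
import Groth.Prelude.Def_CohB1

/-!
# The Čech complex with values in a preadditive category with products, spelled out
-/

set_option autoImplicit false

universe w v u

open CategoryTheory CategoryTheory.Limits Opposite TopologicalSpace Simplicial

namespace K591.CechGen

variable {X : TopCat.{w}} {ι : Type w} (U : ι → Opens X)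

/-- the categorical product of opens is the infimum. -/
theorem iInf_le_prod {p : ℕ} (i : Fin (p+1) → ι) : ⨅ a, U (i a) ≤ ∏ᶜ (U ∘ i) :=
  leOfHom (Pi.lift fun a => homOfLE (iInf_le (fun a => U (i a)) a))

theorem prod_le_iInf {p : ℕ} (i : Fin (p+1) → ι) : ∏ᶜ (U ∘ i) ≤ ⨅ a, U (i a) :=
  le_iInf fun a => leOfHom (Pi.π (U ∘ i) a)

theorem prod_eq_iInf {p : ℕ} (i : Fin (p+1) → ι) : ∏ᶜ (U ∘ i) = ⨅ a, U (i a) :=
  le_antisymm (prod_le_iInf U i) (iInf_le_prod U i)

theorem le_face {p : ℕ} (i : Fin (p+2) → ι) (j : Fin (p+2)) :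
    ∏ᶜ (U ∘ i) ≤ ∏ᶜ (U ∘ (i ∘ j.succAbove)) :=
  (prod_le_iInf U i).trans ((le_iInf fun a => iInf_le (fun a => U (i a)) (j.succAbove a)).trans
    (iInf_le_prod U _))

variable {A : Type u} [Category.{v} A] [Preadditive A] [HasProducts.{w} A] (P : (Opens X)ᵒᵖ ⥤ A)

/-- terms of the complex. -/
noncomputable abbrev CX (p : ℕ) : A := ∏ᶜ fun (i : Fin (p+1) → ι) => P.obj (op (∏ᶜ (U ∘ i)))

/-- face maps -/
noncomputable def CD (p : ℕ) (j : Fin (p+2)) : CX U P p ⟶ CX U P (p+1) :=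
  Pi.lift fun i => Pi.π (fun (i : Fin (p+1) → ι) => P.obj (op (∏ᶜ (U ∘ i)))) (i ∘ j.succAbove) ≫
    P.map (homOfLE (le_face U i j)).op

omit [Preadditive A] in
theorem CD_π (p : ℕ) (j : Fin (p+2)) (i : Fin (p+2) → ι) :
    CD U P p j ≫ Pi.π (fun (i : Fin (p+2) → ι) => P.obj (op (∏ᶜ (U ∘ i)))) i =
      Pi.π (fun (i : Fin (p+1) → ι) => P.obj (op (∏ᶜ (U ∘ i)))) (i ∘ j.succAbove) ≫
        P.map (homOfLE (le_face U i j)).op :=
  Pi.lift_π _ _

theorem cech_X (p : ℕ) : ((cechComplexFunctor (A := A) U).obj P).X p = CX U P p := rfl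

/-- the differential between the explicit products -/
noncomputable def CXd (p : ℕ) : CX U P p ⟶ CX U P (p+1) :=
  ((cechComplexFunctor (A := A) U).obj P).d p (p+1)

theorem cech_d (p : ℕ) : CXd U P p =
    (∑ j : Fin (p+2), (-1 : ℤ)^(j : ℕ) • CD U P p j : CX U P p ⟶ CX U P (p+1)) := by
  exact (CochainComplex.of_d
    (fun n => (((FormalCoproduct.cosimplicialObjectFunctor
      (FormalCoproduct.mk _ U).cech).obj P : CosimplicialObject A)).obj ⦋n⦌)
    (AlgebraicTopology.AlternatingCofaceMapComplex.objD _) p).trans rfl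

theorem CXd_π (p : ℕ) (i : Fin (p+2) → ι) :
    CXd U P p ≫ Pi.π (fun (i : Fin (p+2) → ι) => P.obj (op (∏ᶜ (U ∘ i)))) i =
      ∑ j : Fin (p+2), (-1 : ℤ)^(j : ℕ) •
        (Pi.π (fun (i : Fin (p+1) → ι) => P.obj (op (∏ᶜ (U ∘ i)))) (i ∘ j.succAbove) ≫
          P.map (homOfLE (le_face U i j)).op) := by
  rw [cech_d, Preadditive.sum_comp]
  refine Finset.sum_congr rfl fun j _ => ?_
  rw [Preadditive.zsmul_comp, CD_π]

end K591.CechGen
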