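import Groth.Agent.CechOX.K591.FactH2
import Groth.Agent.Ega3B.InjMod
import Mathlib.CategoryTheory.Abelian.Injective.Extend
import Mathlib.Algebra.Homology.HomotopyCategory.KInjective

/-!
# `𝔠(E, F)` computes `Rf_* F` when the members of `E` are affine over the base
-/

set_option autoImplicit false

universe u

open CategoryTheory CategoryTheory.Limits AlgebraicGeometry Opposite TopologicalSpace Simplicial ComplexShape
attribute [local instance] HasDerivedCategory.standard

namespace K591.Main2

open K591.FCx K591.ModLoc K591.Resol CechOX K591.HypFlasque K591.SecE K591.TotThm K591.AugProd K591.Main1 K591.FactH2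

section

variable {A : Type*} [Category* A] [Abelian A] {F : A} (R : InjectiveResolution F)

/-- the augmentation, as a map of complexes -/
noncomputable def iota : (HomologicalComplex.single A (up ℤ) 0).obj F ⟶ R.cochainComplex := R.ι'

theorem quasiIso_iota : QuasiIso (iota R) := inferInstanceAs (QuasiIso R.ι')

/-- the augmentation -/
noncomputable def rho : F ⟶ R.cochainComplex.X 0 :=
  (HomologicalComplex.singleObjXSelf (up ℤ) 0 F).inv ≫ (iota R).f 0

theorem rho_d : rho R ≫ R.cochainComplex.d 0 1 = 0 := by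
  have h : (iota R).f 0 ≫ R.cochainComplex.d 0 1 = 0 := by
    rw [(iota R).comm]
    exact zero_comp
  rw [rho, Category.assoc, h, comp_zero]

theorem augI_rho : augI (rho R) (rho_d R) = iota R := by
  apply HomologicalComplex.from_single_hom_ext
  rw [augI, HomologicalComplex.mkHomFromSingle_f, rho, Iso.hom_inv_id_assoc]

theorem quasiIso_augI_rho : QuasiIso (augI (rho R) (rho_d R)) := by
  rw [augI_rho]
  exact quasiIso_iota R

end

variable {X S : Scheme.{u}} (f : X ⟶ S)

theorem isFlasque_of_isZero {M : X.Modules} (hM : IsZero M) :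
    TopCat.Sheaf.IsFlasque (X := X.toTopCat) (Coh.toAb M) := by
  have := hM.injective
  exact Groth.Agent.Ega3B.InjMod.isFlasque_of_injective M

/-- **The complex `𝔠(E, F)` represents `Rf_* F`.** -/
theorem main (E : SimplicialObject (FormalCoproduct.{u} X.Opens)) (hE : ∀ x : X, Nonempty (XDegen E x))
    (hfin : ∀ n, Finite (E _⦋n⦌).I) (hA : ∀ (n : ℕ) (i : (E _⦋n⦌).I), IsAffineHom (((E _⦋n⦌).obj i).ι ≫ f))
    (F : X.Modules) (hF : Coh.IsQCoh F) [DCoh.HasRpush f] :
    Nonempty (DCoh.toD S ((cx E (PF' f F)).extend ComplexShape.embeddingUpNat) ≅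
      (DCoh.Rpush f).obj (DCoh.inD X F)) := by
  have := Groth.Agent.Dcoh.DerSch.hasInjectiveResolutions X
  let R : InjectiveResolution F := HasInjectiveResolution.out.some
  have hI : ∀ q, Injective (R.cochainComplex.X q) := fun q => inferInstance
  have hb : Groth.Agent.Htor.H253.TotalPrj.Bdd (DC (FZ f E) R.cochainComplex) := by
    refine fun n => ⟨0, n, fun i j hij hi => ?_⟩
    rcases hi with h | h
    · exact (HomologicalComplex.eval S.Modules (up ℤ) j).map_isZero ((FZ f E).map_isZero
        (R.cochainComplex.isZero_of_isStrictlyGE 0 i h))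
    · exact isZero_FZ f E (R.cochainComplex.X i) j (by lia)
  have h1 : ∀ q : ℤ, QuasiIso ((eta f E).app (R.cochainComplex.X q)) := fun q =>
    quasiIso_eta f _ hE (Groth.Agent.Ega3B.InjMod.isFlasque_of_injective _)
  have h2 : ∀ p : ℤ, QuasiIso (augBf (FZ f E) (rho R) (rho_d R) p) := fun p =>
    h2 f (rho R) (rho_d R) E hA hF hI (quasiIso_augI_rho R) 0 p
  have ht : ∀ K : HomologicalComplex₂ S.Modules (up ℤ) (up ℤ), K.HasTotal (up ℤ) := fun K _ => inferInstance
  obtain ⟨e⟩ := nonempty_iso (FZ f E) (Scheme.Modules.pushforward f) (eta f E) (rho R) (rho_d R) hb h1 h2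
  have hK : R.cochainComplex.IsKInjective := CochainComplex.isKInjective_of_injective _ 0
  have hi : IsIso (DerivedCategory.Q.map (iota R)) :=
    (DerivedCategory.isIso_Q_map_iff_quasiIso _ _).2 (quasiIso_iota R)
  exact ⟨e ≪≫ (Groth.Agent.Dcoh.DerSch.rpushIso f R.cochainComplex hK).symm ≪≫
    (DCoh.Rpush f).mapIso (asIso (DerivedCategory.Q.map (iota R))).symm⟩

end K591.Main2
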