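import Groth.Agent.CechOX.K591.BaseCh
import Groth.Agent.CechOX.K591.Main2
import Groth.Agent.Cohder.MapExtend

/-!
# Pulling back families, and the main theorem after base change
-/

set_option autoImplicit false

universe w u v₁ v₂ u₁ u₂

open CategoryTheory CategoryTheory.Limits AlgebraicGeometry Opposite TopologicalSpace Simplicial
attribute [local instance] HasDerivedCategory.standard

namespace K591.CechPre

open K591.FCx K591.ModLoc K591.Resol CechOX K591.HypFlasque K591.SecE K591.BCx K591.BCy K591.BCz K591.BaseCh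
  K591.RelIso
open Groth.Agent.CohqA.PullbackUniv Groth.Agent.CohqA.PullbackSections Groth.Agent.CohqA.PullbackQCoh

section

variable {C : Type u₁} [Category.{v₁} C] {E E' : SimplicialObject (FormalCoproduct.{w} C)} (e : E ≅ E')
variable {A : Type*} [Category* A] [Preadditive A] [HasProducts.{w} A] (P : Cᵒᵖ ⥤ A)

/-- Isomorphic families give isomorphic complexes. -/
noncomputable def cxIso : cx E P ≅ cx E' P :=
  (AlgebraicTopology.alternatingCofaceMapComplex A).mapIso
    (Functor.isoWhiskerRight (NatIso.ofComponents (fun n => ((e.app (op n)).op).symm) (fun {n m} i => by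
      change (E.map i.op).op ≫ (e.inv.app (op m)).op = (e.inv.app (op n)).op ≫ (E'.map i.op).op
      rw [← op_comp, ← op_comp, e.inv.naturality]) : E.rightOp ≅ E'.rightOp)
      ((FormalCoproduct.evalOp.{w} C A).obj P))

end

variable {X S X' S' : Scheme.{u}} {f : X ⟶ S} {g : S' ⟶ S} {g' : X' ⟶ X} {f' : X' ⟶ S'}

/-- Contractions pull back. -/
def xdegenPre {E : SimplicialObject (FormalCoproduct.{u} X.Opens)} (x : X')
    (D : XDegen (X := X.toTopCat) E (g' x)) : XDegen (X := X'.toTopCat) (smap (om g') E) x where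
  p₀ := D.p₀
  s := D.s
  s_δ₀ := D.s_δ₀
  s_δ := D.s_δ
  s_base := D.s_base

/-- **The complex `𝔠(E, F)` universally computes `Rf_* F`**. -/
theorem main_baseChange (h : IsPullback g' f' f g) [(Scheme.Modules.pullback g).Additive]
    (E : SimplicialObject (FormalCoproduct.{u} X.Opens)) (hE : ∀ x : X, Nonempty (XDegen (X := X.toTopCat) E x))
    (hfin : ∀ n, Finite (E _⦋n⦌).I)
    (hA : ∀ (n : ℕ) (i : (E _⦋n⦌).I), IsAffineHom (((E _⦋n⦌).obj i).ι ≫ f))
    (F : X.Modules) (hF : Coh.IsQCoh F) [DCoh.HasRpush f'] :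
    Nonempty (DCoh.toD S' ((((Scheme.Modules.pullback g).mapHomologicalComplex (ComplexShape.up ℕ)).obj
        (cx E (PF' f F))).extend ComplexShape.embeddingUpNat) ≅
      (DCoh.Rpush f').obj (DCoh.inD _ ((Scheme.Modules.pullback g').obj F))) := by
  obtain ⟨e⟩ := nonempty_baseIso (M := F) (N := (Scheme.Modules.pullback g').obj F) (pbUnit g' F) h E hA hF
    (isUniv_pbUnit g' F)
  have hE' : ∀ x : X', Nonempty (XDegen (X := X'.toTopCat) (smap (om g') E) x) := fun x =>
    ⟨xdegenPre x (hE (g' x)).some⟩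
  have hA' : ∀ (n : ℕ) (i : ((smap (om g') E) _⦋n⦌).I),
      IsAffineHom ((show X'.Opens from ((smap (om g') E) _⦋n⦌).obj i).ι ≫ f') := fun n i => by
    have := hA n i
    exact isAffineHom_restrict h ((E _⦋n⦌).obj i)
  have hF' : Coh.IsQCoh ((Scheme.Modules.pullback g').obj F) := by
    have : F.IsQuasicoherent := hF
    exact isQuasicoherent_pullback g' F
  obtain ⟨e'⟩ := K591.Main2.main f' (smap (om g') E) hE' hfin hA' _ hF'
  exact ⟨DerivedCategory.Q.mapIso ((ComplexShape.embeddingUpNat.extendFunctor S'.Modules).mapIso e) ≪≫ e'⟩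

end K591.CechPre
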