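import Groth.Agent.CechOX.K591.CechPre

/-!
# The Čech family of the preimages
-/

set_option autoImplicit false

universe u

open CategoryTheory CategoryTheory.Limits AlgebraicGeometry Opposite TopologicalSpace Simplicial

namespace K591.CechPre2

open K591.FCx CechOX K591.SecE K591.BaseCh K591.RelIso K591.CechE K591.CechGen

variable {X X' : Scheme.{u}} (g' : X' ⟶ X) {ι : Type u} (𝒰 : ι → X.Opens)

theorem preimage_prod (n : ℕ) (i : Fin (n+1) → ι) :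
    (om g').obj (∏ᶜ (𝒰 ∘ i)) = ∏ᶜ ((fun j => g' ⁻¹ᵁ (𝒰 j)) ∘ i) := by
  have e1 : ∏ᶜ (𝒰 ∘ i) = ⨅ a, 𝒰 (i a) := prod_eq_iInf (X := X.toTopCat) 𝒰 i
  have e2 : ∏ᶜ ((fun j => g' ⁻¹ᵁ (𝒰 j)) ∘ i) = ⨅ a, g' ⁻¹ᵁ (𝒰 (i a)) :=
    prod_eq_iInf (X := X'.toTopCat) (fun j => g' ⁻¹ᵁ (𝒰 j)) i
  rw [e1, e2]
  apply Opens.ext
  rw [Opens.coe_iInf]
  change g' ⁻¹' ((⨅ a, 𝒰 (i a) : X.Opens) : Set X) = _
  rw [Opens.coe_iInf, Set.preimage_iInter]
  rfl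

/-- Preimages of the Čech family. -/
noncomputable def preIso : smap (om g') (ECS 𝒰) ≅ ECS (fun j => g' ⁻¹ᵁ (𝒰 j)) :=
  NatIso.ofComponents (fun n => FormalCoproduct.isoOfComponents (Equiv.refl (Fin (n.unop.len + 1) → ι))
    (fun i => eqToIso (preimage_prod g' 𝒰 n.unop.len i))) (fun _ =>
      FormalCoproduct.hom_ext rfl (fun _ => Subsingleton.elim _ _))

end K591.CechPre2
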