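import Mathlib.CategoryTheory.Sites.SheafCohomology.Cech
import Mathlib.CategoryTheory.Preadditive.AdditiveFunctor
import Mathlib.CategoryTheory.Limits.Preserves.Shapes.Products
import Mathlib.Algebra.Homology.Additive

/-!
# Cochain complexes of simplicial formal coproducts, with values in a preadditive category

Components, differentials, functoriality in the presheaf and in the value category.
-/

set_option autoImplicit false

universe w v u v' u' v'' u''

open CategoryTheory CategoryTheory.Limits Opposite Simplicial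

namespace K591.FCx

variable {C : Type u} [Category.{v} C] (E : SimplicialObject (FormalCoproduct.{w} C))
  {A : Type u'} [Category.{v'} A] [Preadditive A] [HasProducts.{w} A] (P : Cᵒᵖ ⥤ A)

/-- The complex. -/
noncomputable abbrev cx : CochainComplex A ℕ := (FormalCoproduct.cochainComplexFunctor (A := A) E).obj P

/-- The family of values. -/
abbrev fam (n : ℕ) (i : (E _⦋n⦌).I) : A := P.obj (op ((E _⦋n⦌).obj i))

/-- terms of the complex. -/
noncomputable abbrev CX (n : ℕ) : A := ∏ᶜ (fam E P n)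

theorem cx_X (n : ℕ) : (cx E P).X n = CX E P n := rfl

/-- projections -/
noncomputable abbrev pr (n : ℕ) (i : (E _⦋n⦌).I) : CX E P n ⟶ fam E P n i := Pi.π (fam E P n) i

/-- the differential between the explicit products -/
noncomputable def CXd (n : ℕ) : CX E P n ⟶ CX E P (n+1) := (cx E P).d n (n+1)

/-- face maps -/
noncomputable def CD (n : ℕ) (k : Fin (n+2)) : CX E P n ⟶ CX E P (n+1) :=
  Pi.lift fun i => pr E P n ((E.δ k).f i) ≫ P.map ((E.δ k).φ i).op

omit [Preadditive A] in
theorem CD_pr (n : ℕ) (k : Fin (n+2)) (i : (E _⦋n+1⦌).I) :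
    CD E P n k ≫ pr E P (n+1) i = pr E P n ((E.δ k).f i) ≫ P.map ((E.δ k).φ i).op :=
  Pi.lift_π _ _

theorem CXd_eq (n : ℕ) : CXd E P n = ∑ k : Fin (n+2), (-1 : ℤ)^(k : ℕ) • CD E P n k :=
  CochainComplex.of_d _ (AlgebraicTopology.AlternatingCofaceMapComplex.objD
    ((FormalCoproduct.cosimplicialObjectFunctor E).obj P)) n

theorem CXd_pr (n : ℕ) (i : (E _⦋n+1⦌).I) :
    CXd E P n ≫ pr E P (n+1) i =
      ∑ k : Fin (n+2), (-1 : ℤ)^(k : ℕ) • (pr E P n ((E.δ k).f i) ≫ P.map ((E.δ k).φ i).op) := by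
  rw [CXd_eq, Preadditive.sum_comp]
  refine Finset.sum_congr rfl fun k _ => ?_
  rw [Preadditive.zsmul_comp, CD_pr]

/-- The map of complexes induced by a morphism of presheaves. -/
noncomputable abbrev cxMap {P P' : Cᵒᵖ ⥤ A} (φ : P ⟶ P') : cx E P ⟶ cx E P' :=
  (FormalCoproduct.cochainComplexFunctor (A := A) E).map φ

theorem cxMap_f_pr {P P' : Cᵒᵖ ⥤ A} (φ : P ⟶ P') (n : ℕ) (i : (E _⦋n⦌).I) :
    (cxMap E φ).f n ≫ pr E P' n i = pr E P n i ≫ φ.app (op ((E _⦋n⦌).obj i)) :=
  limMap_π _ _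

instance : (FormalCoproduct.cochainComplexFunctor (A := A) E).Additive where
  map_add {P P' φ ψ} := by
    ext n : 1
    apply Pi.hom_ext
    intro i
    change (cxMap E (φ + ψ)).f n ≫ pr E P' n i = ((cxMap E φ).f n + (cxMap E ψ).f n) ≫ pr E P' n i
    rw [Preadditive.add_comp, cxMap_f_pr, cxMap_f_pr, cxMap_f_pr, NatTrans.app_add, Preadditive.comp_add]
    rfl

/-- If a morphism of presheaves is an isomorphism on all the members, it induces an isomorphism of complexes. -/
theorem isIso_cxMap {P P' : Cᵒᵖ ⥤ A} (φ : P ⟶ P')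
    (h : ∀ (n : ℕ) (i : (E _⦋n⦌).I), IsIso (φ.app (op ((E _⦋n⦌).obj i)))) : IsIso (cxMap E φ) := by
  have : ∀ n, IsIso ((cxMap E φ).f n) := by
    intro n
    have := h n
    exact inferInstanceAs (IsIso (Limits.Pi.map fun i : (E _⦋n⦌).I => φ.app (op ((E _⦋n⦌).obj i))))
  exact HomologicalComplex.Hom.isIso_of_components _

section Map

variable {B : Type u''} [Category.{v''} B] [Preadditive B] [HasProducts.{w} B] (G : A ⥤ B) [G.Additive]
  [∀ n, PreservesLimitsOfShape (Discrete (E _⦋n⦌).I) G]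

/-- Comparison in degree `n`. -/
noncomputable def mapIsoX (n : ℕ) : G.obj (CX E P n) ≅ CX E (P ⋙ G) n :=
  PreservesProduct.iso G (fam E P n)

omit [Preadditive A] [Preadditive B] [G.Additive] in
theorem mapIsoX_hom_pr (n : ℕ) (i : (E _⦋n⦌).I) :
    (mapIsoX E P G n).hom ≫ pr E (P ⋙ G) n i = G.map (pr E P n i) :=
  piComparison_comp_π G (fam E P n) i

theorem mapIsoX_comm (n : ℕ) :
    (mapIsoX E P G n).hom ≫ CXd E (P ⋙ G) n = G.map (CXd E P n) ≫ (mapIsoX E P G (n+1)).hom := by
  apply Pi.hom_ext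
  intro i
  change ((mapIsoX E P G n).hom ≫ CXd E (P ⋙ G) n) ≫ pr E (P ⋙ G) (n+1) i =
    (G.map (CXd E P n) ≫ (mapIsoX E P G (n+1)).hom) ≫ pr E (P ⋙ G) (n+1) i
  rw [Category.assoc, Category.assoc, CXd_pr, mapIsoX_hom_pr, ← G.map_comp, CXd_pr, G.map_sum,
    Preadditive.comp_sum]
  refine Finset.sum_congr rfl fun k _ => ?_
  rw [Preadditive.comp_zsmul, G.map_zsmul, ← Category.assoc, mapIsoX_hom_pr, G.map_comp]
  rfl

/-- The complex commutes with additive functors preserving the products. -/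
noncomputable def mapIso : (G.mapHomologicalComplex (ComplexShape.up ℕ)).obj (cx E P) ≅ cx E (P ⋙ G) :=
  HomologicalComplex.Hom.isoOfComponents (mapIsoX E P G) (by
    rintro n m (h : n + 1 = m)
    subst h
    exact mapIsoX_comm E P G n)

end Map

end K591.FCx
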