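import Groth.Agent.CechOX.K591.Main1
import Groth.Agent.CechOX.K591.AugProd
import Groth.Agent.Cohder.RDPlusAcyc
import Groth.Agent.Dcoh.Restrict
import Groth.Agent.S11327
import Groth.Agent.PerfA.QCohSerre

/-!
# Direct images of restrictions to opens which are affine over the base, of resolutions of quasi-coherent modules
-/

set_option autoImplicit false

universe u

open CategoryTheory CategoryTheory.Limits AlgebraicGeometry Opposite TopologicalSpace Simplicial ComplexShape
attribute [local instance] HasDerivedCategory.standard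

namespace K591.FactH2

open K591.FCx K591.ModLoc K591.Resol CechOX K591.HypFlasque K591.SecE K591.TotThm K591.AugProd K591.Main1

variable {X S : Scheme.{u}} (f : X ⟶ S) (W : X.Opens)

/-- `M ↦ f_* j_* (M|_W)`. -/
noncomputable abbrev HW : X.Modules ⥤ S.Modules :=
  Scheme.Modules.restrictFunctor W.ι ⋙ Scheme.Modules.pushforward W.ι ⋙ Scheme.Modules.pushforward f

/-- `M ↦ (fj)_* (M|_W)`. -/
noncomputable abbrev HW' : X.Modules ⥤ S.Modules :=
  Scheme.Modules.restrictFunctor W.ι ⋙ Scheme.Modules.pushforward (W.ι ≫ f)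

/-- comparison. -/
noncomputable def HWiso : HW' f W ≅ HW f W :=
  Functor.isoWhiskerLeft (Scheme.Modules.restrictFunctor W.ι) (Scheme.Modules.pushforwardComp W.ι f).symm

variable {I : CochainComplex X.Modules ℤ} {F : X.Modules} (ρ : F ⟶ I.X 0) (hρ : ρ ≫ I.d 0 1 = 0)

theorem quasiIso_HW' [IsAffineHom (W.ι ≫ f)] (hF : Coh.IsQCoh F) (hI : ∀ q, Injective (I.X q))
    (hq : QuasiIso (augI ρ hρ)) (n : ℤ) [I.IsStrictlyGE n] : QuasiIso (augH (HW' f W) ρ hρ) := by
  have := Groth.Agent.Dcoh.DerSch.hasInjectiveResolutions (W : Scheme.{u})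
  rw [quasiIso_augH_iff]
  have h1 : QuasiIso (((Scheme.Modules.restrictFunctor W.ι).mapHomologicalComplex (up ℤ)).map (augI ρ hρ)) :=
    inferInstance
  have h2 : CochainComplex.IsStrictlyGE (((Scheme.Modules.restrictFunctor W.ι).mapHomologicalComplex (up ℤ)).obj
      ((HomologicalComplex.single X.Modules (up ℤ) 0).obj F)) 0 := by
    rw [CochainComplex.isStrictlyGE_iff]
    intro i hi
    exact (Scheme.Modules.restrictFunctor W.ι).map_isZero
      (HomologicalComplex.isZero_single_obj_X (up ℤ) 0 F i (by lia))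
  have h3 : CochainComplex.IsStrictlyGE
      (((Scheme.Modules.restrictFunctor W.ι).mapHomologicalComplex (up ℤ)).obj I) n := by
    rw [CochainComplex.isStrictlyGE_iff]
    intro i hi
    exact (Scheme.Modules.restrictFunctor W.ι).map_isZero (I.isZero_of_isStrictlyGE n i hi)
  refine Groth.Agent.Cohder.RDPlusAcyc.quasiIso_map (Scheme.Modules.pushforward (W.ι ≫ f))
    (((Scheme.Modules.restrictFunctor W.ι).mapHomologicalComplex (up ℤ)).map (augI ρ hρ)) 0 n ?_ ?_
  · intro p
    change Groth.Agent.Cohder.RDAcyc.IsAcyc (Scheme.Modules.pushforward (W.ι ≫ f))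
      ((Scheme.Modules.restrictFunctor W.ι).obj (((HomologicalComplex.single X.Modules (up ℤ) 0).obj F).X p))
    intro i hi
    by_cases hp : p = 0
    · subst hp
      exact (Groth.Agent.PerfC.RpushAffine.isZero_Rpush (W.ι ≫ f) (F.restrict W.ι)
        (Groth.Agent.PerfA.QCohSerre.isQCoh_restrict W.ι hF) i hi).of_iso
        (((Scheme.Modules.pushforward (W.ι ≫ f)).rightDerived i).mapIso
          ((Scheme.Modules.restrictFunctor W.ι).mapIso (HomologicalComplex.singleObjXSelf (up ℤ) 0 F)))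
    · exact ((Scheme.Modules.pushforward (W.ι ≫ f)).rightDerived i).map_isZero
        ((Scheme.Modules.restrictFunctor W.ι).map_isZero
          (HomologicalComplex.isZero_single_obj_X (up ℤ) 0 F p hp))
  · intro p
    have := Groth.Agent.S11327.result X W (I.X p) (hI p)
    exact Groth.Agent.Cohder.RDAcyc.isAcyc_injective (Scheme.Modules.pushforward (W.ι ≫ f)) ((I.X p).restrict W.ι)

theorem quasiIso_HW [IsAffineHom (W.ι ≫ f)] (hF : Coh.IsQCoh F) (hI : ∀ q, Injective (I.X q))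
    (hq : QuasiIso (augI ρ hρ)) (n : ℤ) [I.IsStrictlyGE n] : QuasiIso (augH (HW f W) ρ hρ) :=
  quasiIso_augH_of_iso ρ hρ (HWiso f W) (quasiIso_HW' f W ρ hρ hF hI hq n)


variable (E : SimplicialObject (FormalCoproduct.{u} X.Opens))

theorem exX_nat_inv {M M' : X.Modules} (a : M ⟶ M') (n : ℕ) {k : ℤ} (h : (n : ℤ) = k) :
    ((FZ f E).map a).f k ≫ (exX f E M' n h).inv = (exX f E M n h).inv ≫ FNf f E a n := by
  rw [Iso.comp_inv_eq, Category.assoc, ← exX_nat, Iso.inv_hom_id_assoc]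

/-- projections of the terms. -/
noncomputable def prH (n : ℕ) (i : (E _⦋n⦌).I) :
    FZ f E ⋙ HomologicalComplex.eval S.Modules (up ℤ) (n : ℤ) ⟶ HW f ((E _⦋n⦌).obj i) where
  app M := (exX f E M n rfl).inv ≫ pr E (PF' f M) n i
  naturality M M' a := by
    change ((FZ f E).map a).f (n : ℤ) ≫ (exX f E M' n rfl).inv ≫ pr E (PF' f M') n i =
      ((exX f E M n rfl).inv ≫ pr E (PF' f M) n i) ≫ ((PFF f).map a).app (op ((E _⦋n⦌).obj i))
    rw [Category.assoc, ← FNf_pr, ← Category.assoc, exX_nat_inv, Category.assoc]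

/-- The terms are products. -/
noncomputable def isLimit_prH (n : ℕ) (M : X.Modules) :
    IsLimit (Fan.mk ((FZ f E ⋙ HomologicalComplex.eval S.Modules (up ℤ) (n : ℤ)).obj M)
      (fun i => (prH f E n i).app M)) :=
  IsLimit.ofIsoLimit (productIsProduct (fam E (PF' f M) n)) (Cone.ext (exX f E M n rfl) (by
    rintro ⟨i⟩
    change pr E (PF' f M) n i = (exX f E M n rfl).hom ≫ (exX f E M n rfl).inv ≫ pr E (PF' f M) n i
    rw [Iso.hom_inv_id_assoc]))

theorem h2 [∀ n, Finite (E _⦋n⦌).I] (hA : ∀ (n : ℕ) (i : (E _⦋n⦌).I), IsAffineHom (((E _⦋n⦌).obj i).ι ≫ f))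
    (hF : Coh.IsQCoh F) (hI : ∀ q, Injective (I.X q))
    (hq : QuasiIso (augI ρ hρ)) (n : ℤ) [I.IsStrictlyGE n] (p : ℤ) : QuasiIso (augBf (FZ f E) ρ hρ p) := by
  change QuasiIso (augH (FZ f E ⋙ HomologicalComplex.eval S.Modules (up ℤ) p) ρ hρ)
  rcases lt_or_ge p 0 with h | h
  · refine quasiIso_augH_of_prod (J := PEmpty.{1}) (FZ f E ⋙ HomologicalComplex.eval S.Modules (up ℤ) p) ρ hρ
      (fun _ => HW f ⊤) (fun j => j.elim) (fun M => ?_) (fun j => j.elim)
    have hz : IsZero (((FZ f E) ⋙ HomologicalComplex.eval S.Modules (up ℤ) p).obj M) := isZero_FZ f E M p h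
    exact ⟨mkFanLimit _ (fun _ => 0) (fun _ j => j.elim) (fun _ _ _ => hz.eq_of_tgt _ _)⟩
  · obtain ⟨m, rfl⟩ : ∃ m : ℕ, (m : ℤ) = p := ⟨p.toNat, by lia⟩
    refine quasiIso_augH_of_prod _ ρ hρ (fun i : (E _⦋m⦌).I => HW f ((E _⦋m⦌).obj i)) (prH f E m)
      (fun M => ⟨isLimit_prH f E m M⟩) fun i => ?_
    have := hA m i
    exact quasiIso_HW f ((E _⦋m⦌).obj i) ρ hρ hF hI hq n

end K591.FactH2
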