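import Groth.Agent.CechOX.K591.HypFlasque
import Mathlib.AlgebraicGeometry.Morphisms.QuasiSeparated
import Mathlib.AlgebraicGeometry.Morphisms.Affine
import Mathlib.AlgebraicGeometry.Morphisms.Separated

/-!
# The simplicial family attached to an affine covering and affine coverings of the pairwise intersections
-/

set_option autoImplicit false

universe u

open CategoryTheory CategoryTheory.Limits AlgebraicGeometry Opposite TopologicalSpace Simplicial

namespace K591.HCov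

open K591.HypFlasque

/-- An affine covering `U`, and affine coverings of the pairwise intersections. -/
structure Dat (X : Scheme.{u}) where
  /-- index set of the covering -/
  ι : Type u
  /-- index set of the coverings of the intersections -/
  Λ : Type u
  finι : Finite ι
  finΛ : Finite Λ
  /-- the covering -/
  U : ι → X.Opens
  /-- the coverings of the pairwise intersections -/
  W : Λ → X.Opens
  hU : ∀ i, IsAffineOpen (U i)
  hW : ∀ l, IsAffineOpen (W l)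
  /-- source -/
  s : Λ → ι
  /-- target -/
  t : Λ → ι
  hs : ∀ l, W l ≤ U (s l)
  ht : ∀ l, W l ≤ U (t l)
  cov : ∀ x : X, ∃ i, x ∈ U i
  cov2 : ∀ (x : X) (i j : ι), x ∈ U i → x ∈ U j → ∃ l, s l = i ∧ t l = j ∧ x ∈ W l

variable {X : Scheme.{u}} (D : Dat X)

/-- The index sets. -/
def II (n : ℕ) : Type u :=
  {p : (Fin (n+1) → D.ι) × (Fin (n+1) → Fin (n+1) → D.Λ) // ∀ a b, D.s (p.2 a b) = p.1 a ∧ D.t (p.2 a b) = p.1 b}

instance (n : ℕ) : Finite (II D n) := by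
  have := D.finι
  have := D.finΛ
  exact Subtype.finite

/-- Precomposition. -/
def IIc {m n : ℕ} (φ : Fin (m+1) → Fin (n+1)) (p : II D n) : II D m :=
  ⟨(fun a => p.1.1 (φ a), fun a b => p.1.2 (φ a) (φ b)), fun a b => p.2 (φ a) (φ b)⟩

/-- The members. -/
noncomputable def mem (n : ℕ) (p : II D n) : X.Opens := ⨅ ab : Fin (n+1) × Fin (n+1), D.W (p.1.2 ab.1 ab.2)

theorem mem_le {m n : ℕ} (φ : Fin (m+1) → Fin (n+1)) (p : II D n) : mem D n p ≤ mem D m (IIc D φ p) :=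
  le_iInf fun ab => iInf_le (fun ab : Fin (n+1) × Fin (n+1) => D.W (p.1.2 ab.1 ab.2)) (φ ab.1, φ ab.2)

/-- The simplicial object. -/
noncomputable def EH : SimplicialObject (FormalCoproduct.{u} X.Opens) where
  obj n := ⟨II D n.unop.len, mem D n.unop.len⟩
  map φ := ⟨IIc D φ.unop.toOrderHom, fun p => homOfLE (mem_le D φ.unop.toOrderHom p)⟩
  map_id _ := FormalCoproduct.hom_ext rfl (fun _ => Subsingleton.elim _ _)
  map_comp _ _ := FormalCoproduct.hom_ext rfl (fun _ => Subsingleton.elim _ _)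

instance (n : ℕ) : Finite ((EH D) _⦋n⦌).I := inferInstanceAs (Finite (II D n))

theorem EH_δ (n : ℕ) (k : Fin (n+2)) (p : II D (n+1)) : ((EH D).δ k).f p = IIc D k.succAbove p := rfl

theorem mem_mem (x : X) (n : ℕ) (p : II D n) : x ∈ mem D n p ↔ ∀ a b, x ∈ D.W (p.1.2 a b) := by
  rw [mem, ← SetLike.mem_coe, Opens.coe_iInf, Set.mem_iInter, Prod.forall]
  rfl

section XD

variable (x : X)

theorem exists_choice (x : X) : ∃ c : D.ι → D.ι → D.Λ, ∀ i j, x ∈ D.U i → x ∈ D.U j →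
    D.s (c i j) = i ∧ D.t (c i j) = j ∧ x ∈ D.W (c i j) := by
  classical
  obtain ⟨i₀, hi₀⟩ := D.cov x
  obtain ⟨l₀, -⟩ := D.cov2 x i₀ i₀ hi₀ hi₀
  refine ⟨fun i j => if h : x ∈ D.U i ∧ x ∈ D.U j then (D.cov2 x i j h.1 h.2).choose else l₀, fun i j hi hj => ?_⟩
  dsimp only
  rw [dif_pos ⟨hi, hj⟩]
  exact (D.cov2 x i j hi hj).choose_spec

variable {x} {c : D.ι → D.ι → D.Λ} (hc : ∀ i j, x ∈ D.U i → x ∈ D.U j →
    D.s (c i j) = i ∧ D.t (c i j) = j ∧ x ∈ D.W (c i j)) {i₀ : D.ι} (h₀ : x ∈ D.U i₀)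

/-- extension of the matrix -/
def ext {n : ℕ} (c : D.ι → D.ι → D.Λ) (i₀ : D.ι) (i : Fin (n+1) → D.ι) (e : Fin (n+1) → Fin (n+1) → D.Λ) :
    Fin (n+2) → Fin (n+2) → D.Λ :=
  fun a b => Fin.cases (motive := fun _ => D.Λ)
    (Fin.cases (motive := fun _ => D.Λ) (c i₀ i₀) (fun b => c i₀ (i b)) b)
    (fun a => Fin.cases (motive := fun _ => D.Λ) (c (i a) i₀) (fun b => e a b) b) a

theorem mem_U {n : ℕ} {p : II D n} (hp : x ∈ mem D n p) (a : Fin (n+1)) : x ∈ D.U (p.1.1 a) := by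
  have h1 := (mem_mem D x n p).1 hp a a
  have h2 := D.hs _ h1
  rwa [(p.2 a a).1] at h2

include hc h₀ in
theorem ext_spec {n : ℕ} (p : II D n) (hp : x ∈ mem D n p) (a b : Fin (n+2)) :
    D.s (ext D c i₀ p.1.1 p.1.2 a b) = (Fin.cons i₀ p.1.1 : Fin (n+2) → D.ι) a ∧
    D.t (ext D c i₀ p.1.1 p.1.2 a b) = (Fin.cons i₀ p.1.1 : Fin (n+2) → D.ι) b ∧
    x ∈ D.W (ext D c i₀ p.1.1 p.1.2 a b) := by
  refine Fin.cases ?_ (fun a => ?_) a
  · refine Fin.cases ?_ (fun b => ?_) b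
    · exact hc i₀ i₀ h₀ h₀
    · exact hc i₀ _ h₀ (mem_U D hp b)
  · refine Fin.cases ?_ (fun b => ?_) b
    · exact hc _ i₀ (mem_U D hp a) h₀
    · exact ⟨(p.2 a b).1, (p.2 a b).2, (mem_mem D x n p).1 hp a b⟩

/-- the extended index -/
def sII {n : ℕ} (p : II D n) (hp : x ∈ mem D n p) : II D (n+1) :=
  ⟨(Fin.cons i₀ p.1.1, ext D c i₀ p.1.1 p.1.2), fun a b =>
    ⟨(ext_spec D hc h₀ p hp a b).1, (ext_spec D hc h₀ p hp a b).2.1⟩⟩

theorem mem_sII {n : ℕ} (p : II D n) (hp : x ∈ mem D n p) : x ∈ mem D (n+1) (sII D hc h₀ p hp) :=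
  (mem_mem D x (n+1) _).2 fun a b => (ext_spec D hc h₀ p hp a b).2.2

/-- Contraction. -/
noncomputable def xdegen : XDegen (X := X.toTopCat) (EH D) x where
  p₀ := ⟨(⟨(fun _ => i₀, fun _ _ => c i₀ i₀), fun _ _ => ⟨(hc i₀ i₀ h₀ h₀).1, (hc i₀ i₀ h₀ h₀).2.1⟩⟩ : II D 0),
    (mem_mem D x 0 _).2 fun _ _ => (hc i₀ i₀ h₀ h₀).2.2⟩
  s n y := ⟨sII D hc h₀ y.1 y.2, mem_sII D hc h₀ y.1 y.2⟩
  s_δ₀ n y := Subtype.ext (Subtype.ext rfl)
  s_δ n k y := Subtype.ext (Subtype.ext (Prod.ext (funext fun a => by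
    change (Fin.cons i₀ (show II D (n+1) from y.1).1.1 : Fin (n+3) → D.ι) (k.succ.succAbove a) =
      (Fin.cons i₀ ((show II D (n+1) from y.1).1.1 ∘ k.succAbove) : Fin (n+2) → D.ι) a
    refine Fin.cases ?_ (fun b => ?_) a
    · rfl
    · rw [Fin.succ_succAbove_succ]
      rfl) (funext fun a => funext fun b => by
    change ext D c i₀ (show II D (n+1) from y.1).1.1 (show II D (n+1) from y.1).1.2
        (k.succ.succAbove a) (k.succ.succAbove b) =
      ext D c i₀ ((show II D (n+1) from y.1).1.1 ∘ k.succAbove)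
        (fun a b => (show II D (n+1) from y.1).1.2 (k.succAbove a) (k.succAbove b)) a b
    refine Fin.cases ?_ (fun a => ?_) a
    · refine Fin.cases ?_ (fun b => ?_) b
      · rfl
      · rw [Fin.succ_succAbove_succ]
        rfl
    · refine Fin.cases ?_ (fun b => ?_) b
      · rw [Fin.succ_succAbove_succ]
        rfl
      · rw [Fin.succ_succAbove_succ, Fin.succ_succAbove_succ]
        rfl)))
  s_base y := Subtype.ext (Subtype.ext (Prod.ext (funext fun a => by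
    obtain rfl : a = (0 : Fin 1) := Subsingleton.elim (α := Fin 1) _ _
    rfl) (funext fun a => funext fun b => by
    obtain rfl : a = (0 : Fin 1) := Subsingleton.elim (α := Fin 1) _ _
    obtain rfl : b = (0 : Fin 1) := Subsingleton.elim (α := Fin 1) _ _
    rfl)))

end XD

theorem nonempty_xdegen (x : X) : Nonempty (XDegen (X := X.toTopCat) (EH D) x) := by
  obtain ⟨c, hc⟩ := exists_choice D x
  obtain ⟨i₀, h₀⟩ := D.cov x
  exact ⟨xdegen D hc h₀⟩

end K591.HCov
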