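import Groth.Agent.CechOX.K591.HCov

/-!
# Affineness of the members, and existence of the data
-/

set_option autoImplicit false

universe u

open CategoryTheory CategoryTheory.Limits AlgebraicGeometry Opposite TopologicalSpace Simplicial

namespace K591.HCov2

open K591.HypFlasque K591.HCov

variable {X : Scheme.{u}}

/-- Intersections of affine opens of an affine open are affine. -/
theorem inf_affine {U A B : X.Opens} (hU : IsAffineOpen U) (hA : IsAffineOpen A) (hB : IsAffineOpen B)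
    (hAU : A ≤ U) (hBU : B ≤ U) : IsAffineOpen (A ⊓ B) := by
  have : IsAffine (U : Scheme.{u}) := hU
  have h1 : IsAffineOpen (U.ι ⁻¹ᵁ A) := hA.preimage_of_isOpenImmersion U.ι (by simpa using hAU)
  have h2 : IsAffineOpen (U.ι ⁻¹ᵁ B) := hB.preimage_of_isOpenImmersion U.ι (by simpa using hBU)
  have h3 := (h1.inf h2).image_of_isOpenImmersion U.ι
  have e : U.ι ''ᵁ (U.ι ⁻¹ᵁ A ⊓ U.ι ⁻¹ᵁ B) = A ⊓ B := by
    rw [← Scheme.Hom.preimage_inf, Scheme.Hom.image_preimage_eq_opensRange_inf, Scheme.Opens.opensRange_ι]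
    exact inf_eq_right.2 (inf_le_left.trans hAU)
  rwa [e] at h3

/-- finite intersections of affine opens of an affine open are affine. -/
theorem iInf_affine {U : X.Opens} (hU : IsAffineOpen U) {K : Type*} [Finite K] [Nonempty K] (A : K → X.Opens)
    (hA : ∀ k, IsAffineOpen (A k)) (hAU : ∀ k, A k ≤ U) : IsAffineOpen (⨅ k, A k) := by
  have h : (⨅ k, A k) ∈ {B : X.Opens | IsAffineOpen B ∧ B ≤ U} :=
    InfClosed.iInf_mem_of_nonempty (fun B hB C hC =>
      ⟨inf_affine hU hB.1 hC.1 hB.2 hC.2, inf_le_left.trans hB.2⟩) fun k => ⟨hA k, hAU k⟩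
  exact h.1

variable (D : Dat X)

theorem isAffineOpen_mem (n : ℕ) (p : II D n) : IsAffineOpen (mem D n p) := by
  classical
  -- the intersection of the first row
  have hA₀ : IsAffineOpen (⨅ b, D.W (p.1.2 0 b)) := iInf_affine (D.hU (p.1.1 0)) _ (fun b => D.hW _) fun b => by
    have := D.hs (p.1.2 0 b)
    rwa [(p.2 0 b).1] at this
  have hle : ∀ b, (⨅ b, D.W (p.1.2 0 b)) ≤ D.U (p.1.1 b) := fun b => by
    refine (iInf_le _ b).trans ?_
    have := D.ht (p.1.2 0 b)
    rwa [(p.2 0 b).2] at this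
  have key : ∀ T : Finset (Fin (n+1) × Fin (n+1)), IsAffineOpen
      ((⨅ b, D.W (p.1.2 0 b)) ⊓ T.inf fun ab => D.W (p.1.2 ab.1 ab.2)) := by
    intro T
    induction T using Finset.induction_on with
    | empty => simpa using hA₀
    | insert ab T _ ih =>
      rw [Finset.inf_insert, inf_left_comm, inf_comm]
      refine inf_affine (D.hU (p.1.1 ab.1)) ih (D.hW _) (inf_le_left.trans (hle ab.1)) ?_
      have := D.hs (p.1.2 ab.1 ab.2)
      rwa [(p.2 ab.1 ab.2).1] at this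
  have h1 := key Finset.univ
  rw [Finset.inf_univ_eq_iInf] at h1
  have e : (⨅ b, D.W (p.1.2 0 b)) ⊓ (⨅ ab : Fin (n+1) × Fin (n+1), D.W (p.1.2 ab.1 ab.2)) = mem D n p :=
    inf_eq_right.2 (le_iInf fun b => iInf_le (fun ab : Fin (n+1) × Fin (n+1) => D.W (p.1.2 ab.1 ab.2)) (0, b))
  rwa [e] at h1

/-- Existence of the data. -/
theorem nonempty_dat [CompactSpace X] [QuasiSeparatedSpace X] : Nonempty (Dat X) := by
  classical
  obtain ⟨I, hI, e⟩ := (isCompact_iff_finite_and_eq_biUnion_affineOpens (X := X) (U := ⊤)).1 isCompact_univ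
  have h2 : ∀ i j : I, ∃ J : Set X.affineOpens, J.Finite ∧ (i.1.1 ⊓ j.1.1 : X.Opens) = ⨆ k ∈ J, k.1 := by
    intro i j
    refine (isCompact_iff_finite_and_eq_biUnion_affineOpens (X := X) (U := i.1.1 ⊓ j.1.1)).1 ?_
    exact QuasiSeparatedSpace.inter_isCompact _ _ i.1.1.2 i.1.2.isCompact j.1.1.2 j.1.2.isCompact
  choose J hJ hJe using h2
  have := hI.to_subtype
  have : ∀ i j, Finite (J i j) := fun i j => (hJ i j).to_subtype
  exact ⟨{
    ι := I
    Λ := Σ (i : I) (j : I), J i j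
    finι := inferInstance
    finΛ := inferInstance
    U := fun i => i.1.1
    W := fun l => l.2.2.1.1
    hU := fun i => i.1.2
    hW := fun l => l.2.2.1.2
    s := fun l => l.1
    t := fun l => l.2.1
    hs := fun l => by
      have h : l.2.2.1.1 ≤ ⨆ k ∈ J l.1 l.2.1, k.1 := le_iSup₂_of_le l.2.2.1 l.2.2.2 le_rfl
      rw [← hJe] at h
      exact h.trans inf_le_left
    ht := fun l => by
      have h : l.2.2.1.1 ≤ ⨆ k ∈ J l.1 l.2.1, k.1 := le_iSup₂_of_le l.2.2.1 l.2.2.2 le_rfl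
      rw [← hJe] at h
      exact h.trans inf_le_right
    cov := fun x => by
      have hx : x ∈ (⊤ : X.Opens) := trivial
      rw [e] at hx
      obtain ⟨k, hk⟩ := Opens.mem_iSup.1 hx
      obtain ⟨hk', hx'⟩ := Opens.mem_iSup.1 hk
      exact ⟨⟨k, hk'⟩, hx'⟩
    cov2 := fun x i j hi hj => by
      have hx : x ∈ (i.1.1 ⊓ j.1.1 : X.Opens) := ⟨hi, hj⟩
      rw [hJe] at hx
      obtain ⟨k, hk⟩ := Opens.mem_iSup.1 hx
      obtain ⟨hk', hx'⟩ := Opens.mem_iSup.1 hk
      exact ⟨⟨i, j, ⟨k, hk'⟩⟩, rfl, rfl, hx'⟩ }⟩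

end K591.HCov2
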