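import Groth.Agent.Htor.H253.TotalRow
import Mathlib.Algebra.Homology.DerivedCategory.Basic
import Mathlib.Algebra.Homology.Additive
import Mathlib.Algebra.Homology.SingleHomology

/-!
# Two resolutions of a double complex

Let `𝓕 : A ⥤ CochainComplex B ℤ` be an additive functor with an augmentation `φ M ⟶ 𝓕(M)^0`, and let `F ⟶ I` be an
augmented complex in `A`.  If `φ (I^q) ⟶ 𝓕(I^q)` and `𝓕(F)^p ⟶ 𝓕(I)^p` are quasi-isomorphisms for all `p`, `q` then
`𝓕(F)` and `φ(I)` are isomorphic in the derived category of `B`.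
-/

set_option autoImplicit false

universe w v₁ v₂ u₁ u₂

open CategoryTheory CategoryTheory.Limits HomologicalComplex₂ ComplexShape

namespace K591.TotThm

open Groth.Agent.Htor.H253 TotalPrj TotalQuasi TotalRow

section Single

variable {B : Type u₂} [Category.{v₂} B] [Abelian B]

/-- A morphism from a single complex which is a resolution is a quasi-isomorphism. -/
theorem quasiIso_mkHomFromSingle {L : B} {K : CochainComplex B ℤ} (u : L ⟶ K.X 0)
    (hu : ∀ k, (up ℤ).Rel 0 k → u ≫ K.d 0 k = 0) (hneg : IsZero (K.X (-1))) (hm : Mono u)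
    (h0 : (ShortComplex.mk u (K.d 0 1) (hu 1 (by simp))).Exact) (hn : ∀ n : ℤ, n ≠ 0 → K.ExactAt n) :
    QuasiIso (HomologicalComplex.mkHomFromSingle u hu) := by
  rw [quasiIso_iff]
  intro n
  by_cases hn0 : n = 0
  · subst hn0
    rw [quasiIsoAt_iff' _ (-1) 0 1 (by simp) (by simp)]
    have hz : ∀ i : ℤ, i ≠ 0 → IsZero (((HomologicalComplex.single B (up ℤ) 0).obj L).X i) := fun i hi =>
      HomologicalComplex.isZero_single_obj_X (up ℤ) 0 L i hi
    rw [ShortComplex.quasiIso_iff_of_zeros]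
    rotate_left
    · exact (hz (-1) (by simp)).eq_of_src _ _
    · exact (hz 1 (by simp)).eq_of_tgt _ _
    · exact hneg.eq_of_src _ _
    have e : ((HomologicalComplex.shortComplexFunctor' B (up ℤ) (-1) 0 1).map
        (HomologicalComplex.mkHomFromSingle u hu)).τ₂ =
        (HomologicalComplex.singleObjXSelf (up ℤ) 0 L).hom ≫ u :=
      HomologicalComplex.mkHomFromSingle_f u hu
    constructor
    · refine ShortComplex.exact_of_iso (S₁ := ShortComplex.mk u (K.d 0 1) (hu 1 (by simp)))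
        (ShortComplex.isoMk (HomologicalComplex.singleObjXSelf (up ℤ) 0 L).symm (Iso.refl _) (Iso.refl _)
          ?_ ?_) h0
      · change (HomologicalComplex.singleObjXSelf (up ℤ) 0 L).inv ≫
          (HomologicalComplex.mkHomFromSingle u hu).f 0 = u ≫ 𝟙 _
        rw [HomologicalComplex.mkHomFromSingle_f, Iso.inv_hom_id_assoc, Category.comp_id]
      · change 𝟙 _ ≫ K.d 0 1 = K.d 0 1 ≫ 𝟙 _
        rw [Category.comp_id, Category.id_comp]
    · rw [e]
      exact mono_comp (HomologicalComplex.singleObjXSelf (up ℤ) 0 L).hom u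
  · rw [quasiIsoAt_iff_exactAt' _ _ (hn n hn0)]
    exact HomologicalComplex.ExactAt.of_isZero (HomologicalComplex.isZero_single_obj_X (up ℤ) 0 L n hn0)

end Single

variable {A : Type u₁} [Category.{v₁} A] [Abelian A] {B : Type u₂} [Category.{v₂} B] [Abelian B]
  (𝓕 : A ⥤ CochainComplex B ℤ) [𝓕.Additive] (φ : A ⥤ B) [φ.Additive]
  (η : φ ⋙ HomologicalComplex.single B (up ℤ) 0 ⟶ 𝓕) (I : CochainComplex A ℤ)

/-- The double complex. -/
abbrev DC : HomologicalComplex₂ B (up ℤ) (up ℤ) := (𝓕.mapHomologicalComplex (up ℤ)).obj I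

/-- The augmentation `φ(I) ⟶ 𝓕(I)`. -/
noncomputable def augA : row ((φ.mapHomologicalComplex (up ℤ)).obj I) ⟶ DC 𝓕 I where
  f q := η.app (I.X q)
  comm' q q' _ := (η.naturality (I.d q q')).symm

variable {I} {F : A} (ρ : F ⟶ I.X 0) (hρ : ρ ≫ I.d 0 1 = 0)

/-- The augmentation `𝓕(F)^p ⟶ 𝓕(I)^p`. -/
noncomputable def augBf (p : ℤ) : (HomologicalComplex.single B (up ℤ) 0).obj ((𝓕.obj F).X p) ⟶ (DC 𝓕 I).flip.X p :=
  HomologicalComplex.mkHomFromSingle ((𝓕.map ρ).f p) (fun k hk => by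
    obtain rfl : k = 1 := by
      have : (0 : ℤ) + 1 = k := hk
      lia
    change (𝓕.map ρ).f p ≫ (𝓕.map (I.d 0 1)).f p = 0
    rw [← HomologicalComplex.comp_f, ← 𝓕.map_comp, hρ, 𝓕.map_zero]
    rfl)

/-- The augmentation `𝓕(F) ⟶ 𝓕(I)`. -/
noncomputable def augB : row (𝓕.obj F) ⟶ (DC 𝓕 I).flip where
  f p := augBf 𝓕 ρ hρ p
  comm' p p' _ := by
    apply HomologicalComplex.from_single_hom_ext
    have e1 : ((row (𝓕.obj F)).d p p').f 0 = (rowX (𝓕.obj F) p).inv ≫ (𝓕.obj F).d p p' ≫ (rowX (𝓕.obj F) p').hom :=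
      HomologicalComplex.single_map_f_self (up ℤ) 0 _
    have e2 : ∀ p : ℤ, (augBf 𝓕 ρ hρ p).f 0 = (rowX (𝓕.obj F) p).inv ≫ (𝓕.map ρ).f p := fun p =>
      HomologicalComplex.mkHomFromSingle_f _ _
    rw [HomologicalComplex.comp_f, HomologicalComplex.comp_f, e1, e2, e2]
    change ((rowX (𝓕.obj F) p).inv ≫ (𝓕.map ρ).f p) ≫ (𝓕.obj (I.X 0)).d p p' =
      ((rowX (𝓕.obj F) p).inv ≫ (𝓕.obj F).d p p' ≫ (rowX (𝓕.obj F) p').hom) ≫
        (rowX (𝓕.obj F) p').inv ≫ (𝓕.map ρ).f p'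
    rw [Category.assoc, Category.assoc, Category.assoc, Iso.hom_inv_id_assoc, (𝓕.map ρ).comm p p']

variable [HasDerivedCategory.{w} B]

/-- **Comparison.** -/
theorem nonempty_iso [(row ((φ.mapHomologicalComplex (up ℤ)).obj I)).HasTotal (up ℤ)]
    [(row (𝓕.obj F)).HasTotal (up ℤ)] [(DC 𝓕 I).HasTotal (up ℤ)]
    (hb : Bdd (DC 𝓕 I)) (h1 : ∀ q : ℤ, QuasiIso (η.app (I.X q))) (h2 : ∀ p : ℤ, QuasiIso (augBf 𝓕 ρ hρ p)) :
    Nonempty (DerivedCategory.Q.obj (𝓕.obj F) ≅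
      DerivedCategory.Q.obj ((φ.mapHomologicalComplex (up ℤ)).obj I)) := by
  have e1 : QuasiIso ((rowIso _).hom ≫ total.map (augA 𝓕 φ η I) (up ℤ)) :=
    quasiIso_rowIso_total_map _ (augA 𝓕 φ η I) hb h1
  have e2 : QuasiIso ((rowIso _).hom ≫ total.map (augB 𝓕 ρ hρ) (up ℤ)) :=
    quasiIso_rowIso_total_map _ (augB 𝓕 ρ hρ) (bdd_flip hb) h2
  have i1 : IsIso (DerivedCategory.Q.map ((rowIso _).hom ≫ total.map (augA 𝓕 φ η I) (up ℤ))) :=
    (DerivedCategory.isIso_Q_map_iff_quasiIso _ _).2 e1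
  have i2 : IsIso (DerivedCategory.Q.map ((rowIso _).hom ≫ total.map (augB 𝓕 ρ hρ) (up ℤ))) :=
    (DerivedCategory.isIso_Q_map_iff_quasiIso _ _).2 e2
  exact ⟨asIso (DerivedCategory.Q.map ((rowIso _).hom ≫ total.map (augB 𝓕 ρ hρ) (up ℤ))) ≪≫
    DerivedCategory.Q.mapIso ((DC 𝓕 I).totalFlipIso (up ℤ)) ≪≫
    (asIso (DerivedCategory.Q.map ((rowIso _).hom ≫ total.map (augA 𝓕 φ η I) (up ℤ)))).symm⟩

end K591.TotThm
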