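import Groth.Agent.CechOX.K591.SecE
import Groth.Agent.CechOX.K591.TotThm
import Groth.Agent.Cohder.ProdExact
import Groth.Agent.PerfC.RpushAffine

/-!
# `𝔠(E, F)` computes `Rf_* F`
-/

set_option autoImplicit false

universe u

open CategoryTheory CategoryTheory.Limits AlgebraicGeometry Opposite TopologicalSpace Simplicial ComplexShape
attribute [local instance] HasDerivedCategory.standard

namespace K591.Main1

open K591.FCx K591.ModLoc K591.Resol CechOX K591.HypFlasque K591.SecE K591.TotThm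

variable {X S : Scheme.{u}} (f : X ⟶ S) (E : SimplicialObject (FormalCoproduct.{u} X.Opens)) (M : X.Modules)

theorem unitW_naturality' {M M' : X.Modules} (a : M ⟶ M') (W : X.Opens) :
    a ≫ unitW M' W = unitW M W ≫ ((pushRestrFam.flip).map a).app (op W) := 
  (Scheme.Modules.restrictAdjunction W.ι).unit.naturality a

instance : (PFF f).Additive where
  map_add {M M'} a b := by
    ext W : 2
    change (Scheme.Modules.pushforward f).map ((Scheme.Modules.pushforward _).map
      ((Scheme.Modules.restrictFunctor W.unop.ι).map (a + b))) = _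
    rw [Functor.map_add, Functor.map_add, Functor.map_add]
    rfl

/-- `M ↦ 𝔠(E, M)`, in degrees `ℕ`. -/
noncomputable abbrev FN : X.Modules ⥤ CochainComplex S.Modules ℕ :=
  PFF f ⋙ FormalCoproduct.cochainComplexFunctor (A := S.Modules) E

/-- `M ↦ 𝔠(E, M)`, in degrees `ℤ`. -/
noncomputable abbrev FZ : X.Modules ⥤ CochainComplex S.Modules ℤ :=
  FN f E ⋙ embeddingUpNat.extendFunctor S.Modules

/-- The map induced on the terms. -/
noncomputable def FNf {M M' : X.Modules} (a : M ⟶ M') (n : ℕ) : CX E (PF' f M) n ⟶ CX E (PF' f M') n :=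
  ((FN f E).map a).f n

theorem FNf_pr {M M' : X.Modules} (a : M ⟶ M') (n : ℕ) (i : (E _⦋n⦌).I) :
    FNf f E a n ≫ pr E (PF' f M') n i = pr E (PF' f M) n i ≫ ((PFF f).map a).app (op ((E _⦋n⦌).obj i)) :=
  cxMap_f_pr E ((PFF f).map a) n i

theorem u0_naturality {M M' : X.Modules} (a : M ⟶ M') :
    (Scheme.Modules.pushforward f).map a ≫ u0 f E M' = u0 f E M ≫ FNf f E a 0 := by
  apply Pi.hom_ext
  intro i
  change ((Scheme.Modules.pushforward f).map a ≫ u0 f E M') ≫ pr E (PF' f M') 0 i =
    (u0 f E M ≫ FNf f E a 0) ≫ pr E (PF' f M') 0 i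
  rw [Category.assoc, Category.assoc, u0_pr, FNf_pr, ← Category.assoc, u0_pr, ← Functor.map_comp,
    unitW_naturality', Functor.map_comp]
  rfl


/-- The terms of the extended complex. -/
noncomputable def exX (n : ℕ) {k : ℤ} (h : (n : ℤ) = k) : CX E (PF' f M) n ≅ ((FZ f E).obj M).X k :=
  (((FN f E).obj M).extendXIso embeddingUpNat h).symm

theorem exX_d (n : ℕ) {k l : ℤ} (h : (n : ℤ) = k) (h' : ((n + 1 : ℕ) : ℤ) = l) :
    (exX f E M n h).hom ≫ ((FZ f E).obj M).d k l = CXd E (PF' f M) n ≫ (exX f E M (n+1) h').hom := by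
  have e : ((FZ f E).obj M).d k l = (exX f E M n h).inv ≫ CXd E (PF' f M) n ≫ (exX f E M (n+1) h').hom :=
    ((FN f E).obj M).extend_d_eq embeddingUpNat h h'
  rw [e, Iso.hom_inv_id_assoc]

theorem exX_nat {M M' : X.Modules} (a : M ⟶ M') (n : ℕ) {k : ℤ} (h : (n : ℤ) = k) :
    (exX f E M n h).hom ≫ ((FZ f E).map a).f k = FNf f E a n ≫ (exX f E M' n h).hom := by
  have e : ((FZ f E).map a).f k = (exX f E M n h).inv ≫ FNf f E a n ≫ (exX f E M' n h).hom :=
    HomologicalComplex.extendMap_f ((FN f E).map a) embeddingUpNat h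
  rw [e, Iso.hom_inv_id_assoc]

/-- The augmentation in degree `0` of the extended complex. -/
noncomputable def v0 : (Scheme.Modules.pushforward f).obj M ⟶ ((FZ f E).obj M).X 0 :=
  u0 f E M ≫ (exX f E M 0 rfl).hom

theorem v0_d (k : ℤ) (hk : (up ℤ).Rel 0 k) : v0 f E M ≫ ((FZ f E).obj M).d 0 k = 0 := by
  obtain rfl : k = 1 := by
    have : (0 : ℤ) + 1 = k := hk
    simpa using this.symm
  rw [v0, Category.assoc, exX_d f E M 0 (k := 0) (l := 1) rfl rfl, ← Category.assoc, u0_d, zero_comp]

theorem v0_naturality {M M' : X.Modules} (a : M ⟶ M') :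
    (Scheme.Modules.pushforward f).map a ≫ v0 f E M' = v0 f E M ≫ ((FZ f E).map a).f 0 := by
  rw [v0, v0, Category.assoc, exX_nat f E a 0 (k := 0) rfl, ← Category.assoc, u0_naturality, Category.assoc]

/-- The augmentation `f_* M ⟶ 𝔠(E, M)`. -/
noncomputable def eta : Scheme.Modules.pushforward f ⋙ HomologicalComplex.single S.Modules (up ℤ) 0 ⟶ FZ f E where
  app M := HomologicalComplex.mkHomFromSingle (v0 f E M) (v0_d f E M)
  naturality M M' a := by
    apply HomologicalComplex.from_single_hom_ext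
    rw [HomologicalComplex.comp_f, HomologicalComplex.comp_f, HomologicalComplex.mkHomFromSingle_f,
      HomologicalComplex.mkHomFromSingle_f, Category.assoc, ← v0_naturality]
    have e1 : ((HomologicalComplex.single S.Modules (up ℤ) 0).map ((Scheme.Modules.pushforward f).map a)).f 0 = _ :=
      HomologicalComplex.single_map_f_self (up ℤ) 0 ((Scheme.Modules.pushforward f).map a)
    change ((HomologicalComplex.single S.Modules (up ℤ) 0).map ((Scheme.Modules.pushforward f).map a)).f 0 ≫ _ = _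
    rw [e1, Category.assoc, Category.assoc, Iso.inv_hom_id_assoc]

theorem isZero_FZ (k : ℤ) (hk : k < 0) : IsZero (((FZ f E).obj M).X k) :=
  ((FN f E).obj M).isZero_extend_X embeddingUpNat k (fun n h => by
    have : (n : ℤ) = k := h
    lia)

variable {E}

/-- Flasque modules. -/
theorem quasiIso_eta (hE : ∀ x : X, Nonempty (XDegen E x))
    (hM : TopCat.Sheaf.IsFlasque (X := X.toTopCat) (Coh.toAb M)) : QuasiIso ((eta f E).app M) := by
  refine quasiIso_mkHomFromSingle (v0 f E M) (v0_d f E M) (isZero_FZ f E M _ (by simp)) ?_ ?_ ?_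
  · have := mono_u0 f M hE
    exact mono_comp _ _
  · refine ShortComplex.exact_of_iso (S₁ := ShortComplex.mk _ _ (u0_d f E M))
      (ShortComplex.isoMk (Iso.refl _) (exX f E M 0 rfl) (exX f E M 1 rfl) ?_ ?_) (exact_u0 f M hE)
    · change 𝟙 _ ≫ v0 f E M = u0 f E M ≫ (exX f E M 0 rfl).hom
      rw [Category.id_comp, v0]
    · exact exX_d f E M 0 rfl rfl
  · intro n hn
    rcases lt_or_ge n 0 with h | h
    · exact HomologicalComplex.ExactAt.of_isZero (isZero_FZ f E M n h)
    · obtain ⟨m, rfl⟩ : ∃ m : ℕ, n = ((m + 1 : ℕ) : ℤ) := ⟨(n - 1).toNat, by lia⟩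
      exact (((FN f E).obj M).extend_exactAt_iff embeddingUpNat rfl).2 (exactAt_cx f M hE hM m)

end K591.Main1
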