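import Groth.Agent.CechOX.K591.CechGen
import Groth.Agent.CechOX.K591.ModLoc

/-!
# The Čech complex of sheaves on sections, and the local contracting homotopy
-/

set_option autoImplicit false

universe u

open CategoryTheory CategoryTheory.Limits AlgebraicGeometry Opposite TopologicalSpace

namespace K591.Resol

open K591.CechGen K591.ModLoc CechOX

variable {X : Scheme.{u}}

theorem interFun_eq (W V : X.Opens) : (interFun W).obj V = W ⊓ V := by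
  change W.ι ''ᵁ (W.ι ⁻¹ᵁ V) = W ⊓ V
  rw [Scheme.Hom.image_preimage_eq_opensRange_inf, Scheme.Opens.opensRange_ι]

variable {ι : Type u} (𝒰 : ι → X.Opens) (F : X.Modules)

/-- the family of direct images, as a presheaf of `O_X`-modules on the opens of `X` -/
noncomputable abbrev PF : (X.Opens)ᵒᵖ ⥤ X.Modules := pushRestrFam.flip.obj F

/-- sections of `(j_W)_*(F|_W)` over `V`, restricted to an open contained in `V ∩ W` -/
noncomputable def rs {W V O : X.Opens} (h : O ≤ (interFun W).obj V) :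
    Γ((PF F).obj (op W), V) →+ Γ(F, O) :=
  (F.presheaf.map (homOfLE h).op).hom

theorem res_rs {W V O O' : X.Opens} (h : O ≤ (interFun W).obj V) (h' : O' ≤ O)
    (x : Γ((PF F).obj (op W), V)) : res F h' (rs F h x) = rs F (h'.trans h) x :=
  res_res F h' h x

theorem rs_map {W W' V O : X.Opens} (hW : W' ≤ W) (h : O ≤ (interFun W').obj V)
    (x : Γ((PF F).obj (op W), V)) :
    rs F h (((PF F).map (homOfLE hW).op).app V x) = rs F (h.trans (image_preimage_mono hW V)) x :=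
  res_res F h (image_preimage_mono hW V) x

theorem rs_res {W V V' O : X.Opens} (hV : V' ≤ V) (h : O ≤ (interFun W).obj V')
    (x : Γ((PF F).obj (op W), V)) :
    rs F h (res _ hV x) = rs F (h.trans ((interFun W).monotone hV)) x :=
  res_res F h ((interFun W).monotone hV) x

theorem rs_bijective {W V O : X.Opens} (h : O ≤ (interFun W).obj V) (h' : (interFun W).obj V ≤ O) :
    Function.Bijective (rs F h) :=
  Function.bijective_iff_has_inverse.mpr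
      ⟨res F h', fun s => by
        change res F h' (res F h s) = s
        rw [res_res, res_self], fun t => by
        change res F h (res F h' t) = t
        rw [res_res, res_self]⟩

theorem cmp_le {p : ℕ} (i : Fin (p+1) → ι) (V : X.Opens) :
    V ⊓ ⨅ a, 𝒰 (i a) ≤ (interFun (∏ᶜ (𝒰 ∘ i))).obj V := by
  rw [interFun_eq, prod_eq_iInf, inf_comm]

theorem cmp_ge {p : ℕ} (i : Fin (p+1) → ι) (V : X.Opens) :
    (interFun (∏ᶜ (𝒰 ∘ i))).obj V ≤ V ⊓ ⨅ a, 𝒰 (i a) := by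
  rw [interFun_eq, prod_eq_iInf, inf_comm]

/-- components of sections of the `p`-th term. -/
noncomputable def cmp (p : ℕ) {V : X.Opens} (x : Γ(CX 𝒰 (PF F) p, V)) (i : Fin (p+1) → ι) :
    Γ(F, V ⊓ ⨅ a, 𝒰 (i a)) :=
  rs F (cmp_le 𝒰 i V)
    ((Pi.π (fun i : Fin (p+1) → ι => (PF F).obj (op (∏ᶜ (𝒰 ∘ i)))) i).app V x)

theorem cmp_bijective (p : ℕ) (V : X.Opens) :
    Function.Bijective (fun (x : Γ(CX 𝒰 (PF F) p, V)) => cmp 𝒰 F p x) := by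
  have h1 := pi_bijective (fun i : Fin (p+1) → ι => (PF F).obj (op (∏ᶜ (𝒰 ∘ i)))) V
  have h2 : Function.Bijective
      (fun (s : ∀ i : Fin (p+1) → ι, Γ((PF F).obj (op (∏ᶜ (𝒰 ∘ i))), V))
        (i : Fin (p+1) → ι) => rs F (cmp_le 𝒰 i V) (s i)) :=
    Function.Bijective.piMap fun i => rs_bijective F _ (cmp_ge 𝒰 i V)
  exact h2.comp h1

theorem cmp_res (p : ℕ) {V V' : X.Opens} (h : V' ≤ V) (x : Γ(CX 𝒰 (PF F) p, V)) (i : Fin (p+1) → ι) :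
    cmp 𝒰 F p (res _ h x) i = res F (inf_le_inf_right _ h) (cmp 𝒰 F p x i) := by
  rw [cmp, cmp, app_res, res_rs, rs_res]

theorem cmp_zero (p : ℕ) {V : X.Opens} (i : Fin (p+1) → ι) :
    cmp 𝒰 F p (0 : Γ(CX 𝒰 (PF F) p, V)) i = 0 := by
  rw [cmp, map_zero, map_zero]

theorem face_le {p : ℕ} (i : Fin (p+2) → ι) (j : Fin (p+2)) (V : X.Opens) :
    V ⊓ ⨅ a, 𝒰 (i a) ≤ V ⊓ ⨅ a, 𝒰 ((i ∘ j.succAbove) a) :=
  inf_le_inf_left _ (le_iInf fun a => iInf_le (fun a => 𝒰 (i a)) (j.succAbove a))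

theorem cmp_d (p : ℕ) {V : X.Opens} (x : Γ(CX 𝒰 (PF F) p, V)) (i : Fin (p+2) → ι) :
    cmp 𝒰 F (p+1) ((CXd 𝒰 (PF F) p).app V x) i =
      ∑ j : Fin (p+2), (-1 : ℤ)^(j : ℕ) • res F (face_le 𝒰 i j V) (cmp 𝒰 F p x (i ∘ j.succAbove)) := by
  rw [cmp, ← comp_app, CXd_π, sum_app, map_sum]
  refine Finset.sum_congr rfl fun j _ => ?_
  rw [zsmul_app, map_zsmul, cmp, res_rs, comp_app, rs_map]

/-- independence of the index -/
theorem cmp_congr {p : ℕ} {V O : X.Opens} (s : ∀ i : Fin (p+1) → ι, Γ(F, V ⊓ ⨅ a, 𝒰 (i a)))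
    {i i' : Fin (p+1) → ι} (h : i = i') (hO : O ≤ V ⊓ ⨅ a, 𝒰 (i a)) :
    res F hO (s i) = res F (by rw [← h]; exact hO) (s i') := by
  subst h
  rfl

theorem htpy_le {p : ℕ} (i₀ : ι) {V : X.Opens} (hV : V ≤ 𝒰 i₀) (i : Fin p → ι) :
    V ⊓ ⨅ a, 𝒰 (i a) ≤ V ⊓ ⨅ a, 𝒰 ((Fin.cons i₀ i : Fin (p+1) → ι) a) := by
  refine le_inf inf_le_left (le_iInf fun a => ?_)
  refine Fin.cases ?_ (fun b => ?_) a
  · exact inf_le_left.trans hV
  · rw [Fin.cons_succ]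
    exact inf_le_right.trans (iInf_le _ b)

/-- exactness on sections over opens contained in a member of the family. -/
theorem exists_eq_d (p : ℕ) (i₀ : ι) {V : X.Opens} (hV : V ≤ 𝒰 i₀) (x : Γ(CX 𝒰 (PF F) (p+1), V))
    (hx : (CXd 𝒰 (PF F) (p+1)).app V x = 0) : ∃ y : Γ(CX 𝒰 (PF F) p, V), (CXd 𝒰 (PF F) p).app V y = x := by
  obtain ⟨y, hy⟩ := (cmp_bijective 𝒰 F p V).2
    (fun i => res F (htpy_le 𝒰 i₀ hV i) (cmp 𝒰 F (p+1) x (Fin.cons i₀ i)))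
  refine ⟨y, (cmp_bijective 𝒰 F (p+1) V).1 ?_⟩
  funext i
  have hy' : ∀ i, cmp 𝒰 F p y i = res F (htpy_le 𝒰 i₀ hV i) (cmp 𝒰 F (p+1) x (Fin.cons i₀ i)) :=
    fun i => congrFun hy i
  have h1 := cmp_d 𝒰 F (p+1) x (Fin.cons i₀ i)
  rw [hx, cmp_zero, Fin.sum_univ_succ] at h1
  have h2 := congrArg (res F (htpy_le 𝒰 i₀ hV i)) h1
  rw [map_zero, map_add, map_zsmul, map_sum, res_res] at h2
  have h3 : ((Fin.cons i₀ i : Fin (p+3) → ι) ∘ (0 : Fin (p+3)).succAbove) = i := by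
    funext a
    simp
  rw [cmp_congr 𝒰 F (cmp 𝒰 F (p+1) x) h3, res_self, Fin.val_zero, pow_zero, one_zsmul] at h2
  change cmp 𝒰 F (p+1) _ i = cmp 𝒰 F (p+1) x i
  rw [cmp_d]
  have h4 : ∀ j : Fin (p+2), (-1 : ℤ)^(j : ℕ) • res F (face_le 𝒰 i j V) (cmp 𝒰 F p y (i ∘ j.succAbove)) =
      - (res F (htpy_le 𝒰 i₀ hV i) ((-1 : ℤ)^((j.succ : Fin (p+3)) : ℕ) •
        res F (face_le 𝒰 (Fin.cons i₀ i) j.succ V)
          (cmp 𝒰 F (p+1) x ((Fin.cons i₀ i : Fin (p+3) → ι) ∘ j.succ.succAbove)))) := by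
    intro j
    have h5 : ((Fin.cons i₀ i : Fin (p+3) → ι) ∘ j.succ.succAbove) = Fin.cons i₀ (i ∘ j.succAbove) := by
      funext a
      refine Fin.cases ?_ (fun b => ?_) a
      · simp
      · simp
    rw [hy', res_res, map_zsmul, res_res, cmp_congr 𝒰 F (cmp 𝒰 F (p+1) x) h5, Fin.val_succ, pow_succ]
    simp
  rw [Finset.sum_congr rfl fun j _ => h4 j, Finset.sum_neg_distrib]
  exact (eq_neg_of_add_eq_zero_left h2.symm).symm

/-! ### The coaugmentation -/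

/-- the coaugmentation -/
noncomputable def aug : F ⟶ CX 𝒰 (PF F) 0 := cechShAug 𝒰 F

/-- the unit map, as a map to the value of the family -/
noncomputable def unitW (W : X.Opens) : F ⟶ (PF F).obj (op W) :=
  (Scheme.Modules.restrictAdjunction W.ι).unit.app F

theorem rs_unitW {W V O : X.Opens} (h : O ≤ (interFun W).obj V) (h' : O ≤ V) (x : Γ(F, V)) :
    rs F h ((unitW F W).app V x) = res F h' x := by
  have h1 : (unitW F W).app V x = F.presheaf.map (homOfLE (W.ι.image_preimage_le V)).op x :=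
    ConcreteCategory.congr_hom (Scheme.Modules.restrictAdjunction_unit_app_app W.ι F V) x
  rw [h1]
  exact res_res F h (W.ι.image_preimage_le V) x

theorem aug_π (i : Fin 1 → ι) :
    aug 𝒰 F ≫ Pi.π (fun i : Fin (0+1) → ι => (PF F).obj (op (∏ᶜ (𝒰 ∘ i)))) i = unitW F (∏ᶜ (𝒰 ∘ i)) :=
  Pi.lift_π _ _

theorem cmp_aug {V : X.Opens} (x : Γ(F, V)) (i : Fin 1 → ι) :
    cmp 𝒰 F 0 ((aug 𝒰 F).app V x) i = res F inf_le_left x := by
  rw [cmp, ← comp_app, aug_π, rs_unitW]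

theorem cmp_aug_local (i₀ : ι) {V : X.Opens} (hV : V ≤ 𝒰 i₀) :
    V ≤ V ⊓ ⨅ a, 𝒰 ((fun _ => i₀ : Fin 1 → ι) a) :=
  le_inf le_rfl (le_iInf fun _ => hV)

theorem aug_injective_local (i₀ : ι) {V : X.Opens} (hV : V ≤ 𝒰 i₀) (x : Γ(F, V))
    (hx : (aug 𝒰 F).app V x = 0) : x = 0 := by
  have h1 := cmp_aug 𝒰 F x (fun _ => i₀)
  rw [hx] at h1
  have h2 := congrArg (res F (cmp_aug_local 𝒰 i₀ hV)) h1
  rw [res_res, res_self] at h2
  rw [← h2]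
  exact (congrArg _ (cmp_zero 𝒰 F 0 _)).trans (map_zero _)

theorem exists_eq_aug (i₀ : ι) {V : X.Opens} (hV : V ≤ 𝒰 i₀) (x : Γ(CX 𝒰 (PF F) 0, V))
    (hx : (CXd 𝒰 (PF F) 0).app V x = 0) : ∃ y : Γ(F, V), (aug 𝒰 F).app V y = x := by
  refine ⟨res F (cmp_aug_local 𝒰 i₀ hV) (cmp 𝒰 F 0 x (fun _ => i₀)), (cmp_bijective 𝒰 F 0 V).1 ?_⟩
  funext i
  change cmp 𝒰 F 0 _ i = cmp 𝒰 F 0 x i
  rw [cmp_aug, res_res]
  have hO : V ⊓ ⨅ a, 𝒰 (i a) ≤ V ⊓ ⨅ a, 𝒰 ((Fin.cons i₀ i : Fin 2 → ι) a) := htpy_le 𝒰 i₀ hV i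
  have h1 := cmp_d 𝒰 F 0 x (Fin.cons i₀ i)
  rw [hx, cmp_zero, Fin.sum_univ_two] at h1
  have h2 := congrArg (res F hO) h1
  have h3 : ((Fin.cons i₀ i : Fin 2 → ι) ∘ (0 : Fin 2).succAbove) = i := by
    funext a
    simp
  have h5 : ((Fin.cons i₀ i : Fin 2 → ι) ∘ (1 : Fin 2).succAbove) = fun _ => i₀ := by
    funext a
    have : a = 0 := Subsingleton.elim _ _
    subst this
    simp
  rw [map_zero, map_add, map_zsmul, map_zsmul, res_res, res_res,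
    cmp_congr 𝒰 F (cmp 𝒰 F 0 x) h3, res_self, cmp_congr 𝒰 F (cmp 𝒰 F 0 x) h5] at h2
  simp only [Fin.val_zero, pow_zero, one_zsmul, Fin.val_one, pow_one, neg_smul] at h2
  rw [← sub_eq_add_neg] at h2
  exact (sub_eq_zero.mp h2.symm).symm

theorem aug_d : aug 𝒰 F ≫ CXd 𝒰 (PF F) 0 = 0 := by
  apply Scheme.Modules.hom_ext
  intro V
  ext x
  apply (cmp_bijective 𝒰 F 1 V).1
  funext i
  change cmp 𝒰 F 1 ((CXd 𝒰 (PF F) 0).app V ((aug 𝒰 F).app V x)) i = cmp 𝒰 F 1 0 i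
  rw [cmp_zero, cmp_d, Fin.sum_univ_two, cmp_aug, cmp_aug, res_res, res_res]
  simp

/-! ### The resolution -/

variable {𝒰}

theorem exists_open (h𝒰 : ⨆ i, 𝒰 i = ⊤) {U : X.Opens} {x : X} (hx : x ∈ U) :
    ∃ (i₀ : ι) (V : X.Opens) (_ : V ≤ U), V ≤ 𝒰 i₀ ∧ x ∈ V := by
  have h1 : x ∈ ⨆ i, 𝒰 i := by rw [h𝒰]; trivial
  obtain ⟨i₀, hi₀⟩ := Opens.mem_iSup.mp h1
  exact ⟨i₀, U ⊓ 𝒰 i₀, inf_le_left, inf_le_right, hx, hi₀⟩

theorem mono_aug (h𝒰 : ⨆ i, 𝒰 i = ⊤) : Mono (aug 𝒰 F) := by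
  refine mono_of_locally _ fun U s hs x hx => ?_
  obtain ⟨i₀, V, hV, hV', hxV⟩ := exists_open h𝒰 hx
  refine ⟨V, hV, hxV, aug_injective_local 𝒰 F i₀ hV' _ ?_⟩
  rw [app_res, hs, map_zero]

theorem exact_aug (h𝒰 : ⨆ i, 𝒰 i = ⊤) : (ShortComplex.mk _ _ (aug_d 𝒰 F)).Exact := by
  refine exact_of_locally _ fun U s hs x hx => ?_
  obtain ⟨i₀, V, hV, hV', hxV⟩ := exists_open h𝒰 hx
  obtain ⟨y, hy⟩ := exists_eq_aug 𝒰 F i₀ hV' (res _ hV s) (by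
    rw [app_res]
    exact (congrArg _ hs).trans (map_zero _))
  exact ⟨V, hV, y, hxV, hy⟩

theorem CXd_CXd (p : ℕ) : CXd 𝒰 (PF F) p ≫ CXd 𝒰 (PF F) (p+1) = 0 :=
  HomologicalComplex.d_comp_d _ _ _ _

theorem exact_CXd (h𝒰 : ⨆ i, 𝒰 i = ⊤) (p : ℕ) : (ShortComplex.mk _ _ (CXd_CXd (𝒰 := 𝒰) F p)).Exact := by
  refine exact_of_locally _ fun U s hs x hx => ?_
  obtain ⟨i₀, V, hV, hV', hxV⟩ := exists_open h𝒰 hx
  obtain ⟨y, hy⟩ := exists_eq_d 𝒰 F p i₀ hV' (res _ hV s) (by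
    rw [app_res]
    exact (congrArg _ hs).trans (map_zero _))
  exact ⟨V, hV, y, hxV, hy⟩

theorem exactAt (h𝒰 : ⨆ i, 𝒰 i = ⊤) (p : ℕ) : ((cechSh 𝒰).obj F).ExactAt (p + 1) := by
  rw [HomologicalComplex.exactAt_iff' _ p (p+1) (p+2) (by simp) (by simp)]
  exact exact_CXd F h𝒰 p

end K591.Resol
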