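import Groth.Agent.CechOX.K591.FCx
import Groth.Agent.CechOX.K591.HypFlasque
import Groth.Agent.CechOX.K591.Resol

/-!
# Sections of the complexes `f_* 𝔠(E, M)`, and exactness for flasque modules
-/

set_option autoImplicit false

universe u

open CategoryTheory CategoryTheory.Limits AlgebraicGeometry Opposite TopologicalSpace Simplicial

namespace K591.SecE

open K591.FCx K591.ModLoc K591.Resol CechOX K591.HypFlasque
open Groth.Agent.CohtopA.CechInj Groth.Agent.CohtopA.CechLES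

variable {X S : Scheme.{u}} (f : X ⟶ S) (E : SimplicialObject (FormalCoproduct.{u} X.Opens)) (M : X.Modules)

/-- the family of direct images on `S`, as a functor -/
noncomputable abbrev PFF : X.Modules ⥤ ((X.Opens)ᵒᵖ ⥤ S.Modules) :=
  pushRestrFam.flip ⋙ (Functor.whiskeringRight _ _ _).obj (Scheme.Modules.pushforward f)

/-- the family of direct images on `S` -/
noncomputable abbrev PF' : (X.Opens)ᵒᵖ ⥤ S.Modules := (PFF f).obj M

/-- sections of `f_* (j_W)_*(F|_W)` over `T`, restricted to an open contained in `f⁻¹ T ∩ W` -/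
noncomputable def rsf {W : X.Opens} {T : S.Opens} {O : X.Opens} (h : O ≤ (interFun W).obj (f ⁻¹ᵁ T)) :
    Γ((PF' f M).obj (op W), T) →+ Γ(M, O) :=
  (M.presheaf.map (homOfLE h).op).hom

theorem res_rsf {W : X.Opens} {T : S.Opens} {O O' : X.Opens} (h : O ≤ (interFun W).obj (f ⁻¹ᵁ T)) (h' : O' ≤ O)
    (x : Γ((PF' f M).obj (op W), T)) : res M h' (rsf f M h x) = rsf f M (h'.trans h) x :=
  res_res M h' h x

theorem rsf_map {W W' : X.Opens} {T : S.Opens} {O : X.Opens} (i : W' ⟶ W)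
    (h : O ≤ (interFun W').obj (f ⁻¹ᵁ T)) (x : Γ((PF' f M).obj (op W), T)) :
    rsf f M h (((PF' f M).map i.op).app T x) =
      rsf f M (h.trans (image_preimage_mono (leOfHom i) (f ⁻¹ᵁ T))) x :=
  res_res M h (image_preimage_mono (leOfHom i) (f ⁻¹ᵁ T)) x

theorem rsf_res {W : X.Opens} {T T' : S.Opens} {O : X.Opens} (hT : T' ≤ T)
    (h : O ≤ (interFun W).obj (f ⁻¹ᵁ T')) (x : Γ((PF' f M).obj (op W), T)) :
    rsf f M h (res _ hT x) = rsf f M (h.trans ((interFun W).monotone (f.preimage_mono hT))) x :=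
  res_res M h ((interFun W).monotone (f.preimage_mono hT)) x

theorem rsf_bijective {W : X.Opens} {T : S.Opens} {O : X.Opens} (h : O ≤ (interFun W).obj (f ⁻¹ᵁ T))
    (h' : (interFun W).obj (f ⁻¹ᵁ T) ≤ O) : Function.Bijective (rsf f M h) :=
  Function.bijective_iff_has_inverse.mpr
      ⟨res M h', fun s => by
        change res M h' (res M h s) = s
        rw [res_res, res_self], fun t => by
        change res M h (res M h' t) = t
        rw [res_res, res_self]⟩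

theorem le_inter (W : X.Opens) (T : S.Opens) : f ⁻¹ᵁ T ⊓ W ≤ (interFun W).obj (f ⁻¹ᵁ T) := by
  rw [interFun_eq, inf_comm]

theorem inter_le (W : X.Opens) (T : S.Opens) : (interFun W).obj (f ⁻¹ᵁ T) ≤ f ⁻¹ᵁ T ⊓ W := by
  rw [interFun_eq, inf_comm]

/-- components of sections of the `n`-th term. -/
noncomputable def cmpE (n : ℕ) {T : S.Opens} (x : Γ(CX E (PF' f M) n, T)) (i : (E _⦋n⦌).I) :
    Γ(M, f ⁻¹ᵁ T ⊓ (E _⦋n⦌).obj i) :=
  rsf f M (le_inter f _ T) ((pr E (PF' f M) n i).app T x)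

theorem cmpE_bijective (n : ℕ) (T : S.Opens) :
    Function.Bijective (fun (x : Γ(CX E (PF' f M) n, T)) => cmpE f E M n x) := by
  have h1 := pi_bijective (fam E (PF' f M) n) T
  have h2 : Function.Bijective
      (fun (s : ∀ i : (E _⦋n⦌).I, Γ(fam E (PF' f M) n i, T))
        (i : (E _⦋n⦌).I) => rsf f M (le_inter f ((E _⦋n⦌).obj i) T) (s i)) :=
    Function.Bijective.piMap fun i => rsf_bijective f M _ (inter_le f _ T)
  exact h2.comp h1

theorem cmpE_res (n : ℕ) {T T' : S.Opens} (h : T' ≤ T) (x : Γ(CX E (PF' f M) n, T)) (i : (E _⦋n⦌).I) :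
    cmpE f E M n (res _ h x) i = res M (inf_le_inf_right _ (f.preimage_mono h)) (cmpE f E M n x i) := by
  rw [cmpE, cmpE, ModLoc.app_res, res_rsf, rsf_res]

theorem cmpE_zero (n : ℕ) {T : S.Opens} (i : (E _⦋n⦌).I) :
    cmpE f E M n (0 : Γ(CX E (PF' f M) n, T)) i = 0 := by
  rw [cmpE, map_zero, map_zero]

theorem face_le {n : ℕ} (i : (E _⦋n+1⦌).I) (k : Fin (n+2)) (V : X.Opens) :
    V ⊓ (E _⦋n+1⦌).obj i ≤ V ⊓ (E _⦋n⦌).obj ((E.δ k).f i) :=
  inf_le_inf_left _ (leOfHom ((E.δ k).φ i))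

theorem cmpE_d (n : ℕ) {T : S.Opens} (x : Γ(CX E (PF' f M) n, T)) (i : (E _⦋n+1⦌).I) :
    cmpE f E M (n+1) ((CXd E (PF' f M) n).app T x) i =
      ∑ k : Fin (n+2), (-1 : ℤ)^(k : ℕ) •
        res M (face_le E i k (f ⁻¹ᵁ T)) (cmpE f E M n x ((E.δ k).f i)) := by
  rw [cmpE, ← comp_app, CXd_pr, sum_app, map_sum]
  refine Finset.sum_congr rfl fun k _ => ?_
  rw [zsmul_app, map_zsmul, cmpE, res_rsf, comp_app, rsf_map]

/-- The corresponding cochain of the underlying abelian sheaf -/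
theorem exists_cochain (n : ℕ) {T : S.Opens} (x : Γ(CX E (PF' f M) n, T)) :
    ∃ c : ev (PV (X := X.toTopCat) (Coh.toAb M) (f ⁻¹ᵁ T)) (E _⦋n⦌), ∀ i,
      cpt (X := X.toTopCat) (Coh.toAb M) (f ⁻¹ᵁ T) c i = cmpE f E M n x i :=
  cpt_exists (X := X.toTopCat) (Coh.toAb M) (f ⁻¹ᵁ T) (fun i => cmpE f E M n x i)

theorem exists_section (n : ℕ) {T : S.Opens}
    (c : ev (PV (X := X.toTopCat) (Coh.toAb M) (f ⁻¹ᵁ T)) (E _⦋n⦌)) :
    ∃ x : Γ(CX E (PF' f M) n, T), ∀ i,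
      cpt (X := X.toTopCat) (Coh.toAb M) (f ⁻¹ᵁ T) c i = cmpE f E M n x i := by
  obtain ⟨x, hx⟩ := (cmpE_bijective f E M n T).2 (fun i => cpt (X := X.toTopCat) (Coh.toAb M) (f ⁻¹ᵁ T) c i)
  exact ⟨x, fun i => (congrFun hx i).symm⟩

theorem cpt_d_eq (n : ℕ) {T : S.Opens} (x : Γ(CX E (PF' f M) n, T))
    (c : ev (PV (X := X.toTopCat) (Coh.toAb M) (f ⁻¹ᵁ T)) (E _⦋n⦌))
    (h : ∀ i, cpt (X := X.toTopCat) (Coh.toAb M) (f ⁻¹ᵁ T) c i = cmpE f E M n x i) (i : (E _⦋n+1⦌).I) :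
    cpt (X := X.toTopCat) (Coh.toAb M) (f ⁻¹ᵁ T) (dEv _ E n c) i =
      cmpE f E M (n+1) ((CXd E (PF' f M) n).app T x) i := by
  rw [cpt_dEv, cmpE_d]
  refine Finset.sum_congr rfl fun k _ => ?_
  rw [h]
  rfl

variable {E}

/-- exactness on sections in positive degrees for flasque modules -/
theorem exists_eq_d (hE : ∀ x : X, Nonempty (XDegen E x)) (hM : TopCat.Sheaf.IsFlasque (X := X.toTopCat) (Coh.toAb M))
    (n : ℕ) {T : S.Opens} (x : Γ(CX E (PF' f M) (n+1), T)) (hx : (CXd E (PF' f M) (n+1)).app T x = 0) :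
    ∃ y : Γ(CX E (PF' f M) n, T), (CXd E (PF' f M) n).app T y = x := by
  obtain ⟨c, hc⟩ := exists_cochain f E M (n+1) x
  have h1 := isZero_homology (X := X.toTopCat) (V := f ⁻¹ᵁ T) (E := E) (fun x _ => hE x) n (Coh.toAb M) hM
  rw [← HomologicalComplex.exactAt_iff_isZero_homology] at h1
  obtain ⟨b, hb⟩ := (cochain_exactAt_iff _ n).1 h1 c (by
    refine cpt_ext (X := X.toTopCat) (Coh.toAb M) (f ⁻¹ᵁ T) fun i => ?_
    rw [cpt_d_eq f E M (n+1) x c hc, hx, cmpE_zero, cpt_zero]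
    rfl)
  obtain ⟨y, hy⟩ := exists_section f E M n b
  refine ⟨y, (cmpE_bijective f E M (n+1) T).1 ?_⟩
  funext i
  have h2 := cpt_d_eq f E M n y b hy i
  rw [hb, hc] at h2
  exact h2.symm

/-! ### The augmentation -/

variable (E)

/-- the augmentation `f_* M ⟶ ∏ f_* (j_σ)_*(M|_{U_σ})`. -/
noncomputable def u0 : (Scheme.Modules.pushforward f).obj M ⟶ CX E (PF' f M) 0 :=
  Pi.lift fun i => (Scheme.Modules.pushforward f).map (unitW M ((E _⦋0⦌).obj i))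

theorem u0_pr (i : (E _⦋0⦌).I) :
    u0 f E M ≫ pr E (PF' f M) 0 i = (Scheme.Modules.pushforward f).map (unitW M ((E _⦋0⦌).obj i)) :=
  Pi.lift_π _ _

theorem cmpE_u0 {T : S.Opens} (x : Γ(M, f ⁻¹ᵁ T)) (i : (E _⦋0⦌).I) :
    cmpE f E M 0 ((u0 f E M).app T x) i = res M inf_le_left x := by
  rw [cmpE, ← comp_app, u0_pr]
  exact rs_unitW M (le_inter f _ T) inf_le_left x

theorem u0_d : u0 f E M ≫ CXd E (PF' f M) 0 = 0 := by
  apply Scheme.Modules.hom_ext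
  intro T
  ext x
  apply (cmpE_bijective f E M 1 T).1
  funext i
  change cmpE f E M 1 ((CXd E (PF' f M) 0).app T ((u0 f E M).app T x)) i = cmpE f E M 1 0 i
  rw [cmpE_zero, cmpE_d, Fin.sum_univ_two, cmpE_u0, cmpE_u0, res_res, res_res]
  simp

variable {E}

theorem u0_injective (hE : ∀ x : X, Nonempty (XDegen E x)) {T : S.Opens} (x : Γ(M, f ⁻¹ᵁ T))
    (hx : (u0 f E M).app T x = 0) : x = 0 := by
  refine eq_of_locally M _ _ fun p hp => ?_
  obtain ⟨D⟩ := hE p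
  refine ⟨f ⁻¹ᵁ T ⊓ (E _⦋0⦌).obj D.p₀.1, inf_le_left, ⟨hp, D.p₀.2⟩, ?_⟩
  rw [map_zero, ← cmpE_u0, hx, cmpE_zero]

theorem exists_eq_u0 (hE : ∀ x : X, Nonempty (XDegen E x)) {T : S.Opens} (x : Γ(CX E (PF' f M) 0, T))
    (hx : (CXd E (PF' f M) 0).app T x = 0) : ∃ y : Γ(M, f ⁻¹ᵁ T), (u0 f E M).app T y = x := by
  obtain ⟨c, hc⟩ := exists_cochain f E M 0 x
  have h1 := augExact (X := X.toTopCat) (Coh.toAb M) (V := f ⁻¹ᵁ T) (E := E) (fun x _ => hE x)
  obtain ⟨b, hb⟩ := h1.lift c (by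
    refine cpt_ext (X := X.toTopCat) (Coh.toAb M) (f ⁻¹ᵁ T) fun i => ?_
    rw [cpt_d_eq f E M 0 x c hc, hx, cmpE_zero, cpt_zero]
    rfl)
  refine ⟨res M (le_inf le_rfl le_top) (show Γ(M, f ⁻¹ᵁ T ⊓ ⊤) from b), (cmpE_bijective f E M 0 T).1 ?_⟩
  funext i
  change cmpE f E M 0 _ i = cmpE f E M 0 x i
  rw [cmpE_u0, res_res, ← hc, ← hb]
  exact (cpt_augMap (X := X.toTopCat) (Coh.toAb M) (f ⁻¹ᵁ T) E b i).symm

theorem mono_u0 (hE : ∀ x : X, Nonempty (XDegen E x)) : Mono (u0 f E M) := by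
  refine mono_of_locally _ fun T s hs x hx => ⟨T, le_rfl, hx, ?_⟩
  rw [res_self]
  exact u0_injective f M hE s hs

theorem exact_u0 (hE : ∀ x : X, Nonempty (XDegen E x)) : (ShortComplex.mk _ _ (u0_d f E M)).Exact := by
  refine exact_of_locally _ fun T s hs x hx => ?_
  obtain ⟨y, hy⟩ := exists_eq_u0 f M hE s hs
  refine ⟨T, le_rfl, y, hx, ?_⟩
  rw [res_self]
  exact hy

theorem CXd_CXd (n : ℕ) : CXd E (PF' f M) n ≫ CXd E (PF' f M) (n+1) = 0 :=
  HomologicalComplex.d_comp_d _ _ _ _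

theorem exact_CXd (hE : ∀ x : X, Nonempty (XDegen E x)) (hM : TopCat.Sheaf.IsFlasque (X := X.toTopCat) (Coh.toAb M))
    (n : ℕ) : (ShortComplex.mk _ _ (CXd_CXd (E := E) f M n)).Exact := by
  refine exact_of_locally _ fun T s hs x hx => ?_
  obtain ⟨y, hy⟩ := exists_eq_d f M hE hM n s hs
  refine ⟨T, le_rfl, y, hx, ?_⟩
  rw [res_self]
  exact hy

theorem exactAt_cx (hE : ∀ x : X, Nonempty (XDegen E x))
    (hM : TopCat.Sheaf.IsFlasque (X := X.toTopCat) (Coh.toAb M)) (n : ℕ) :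
    (cx E (PF' f M)).ExactAt (n + 1) := by
  rw [HomologicalComplex.exactAt_iff' _ n (n+1) (n+2) (by simp) (by simp)]
  exact exact_CXd f M hE hM n

end K591.SecE
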